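import Mathlib
set_option linter.all false

-- part: H144/Base
section
/-!
# Commutators in isometry groups from Siegel corners

`V` a finite dimensional space with a bilinear form `B`.
* `Iso B g` : the linear equivalence `g` preserves `B`; `IsComm B g` : `g` is a commutator of two isometries.
* `comm_of_corner` : `V = P ⊕ Q` with `P`, `Q` totally isotropic, `X`, `Z` isometries preserving `P` and `Q`
  such that some polynomial kills `X|P` and is injective on `Q` and conversely; then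
  `(1 + n) (X Z X⁻¹ Z⁻¹) (1 + m)` is a commutator for all Siegel unipotents `1 + n`, `1 + m`.
* `C1 B g` : there are such `P`, `Q` with `(g - 1) P ≤ Q`; then `g = (1 + n) (1 + m)`.
-/

set_option autoImplicit false
open Polynomial

namespace Cfsg.Agent.H144

section Basic

variable {F V : Type*} [Field F] [AddCommGroup V] [Module F V]

/-- `g` preserves the bilinear form `B`. -/
def Iso (B : LinearMap.BilinForm F V) (g : V ≃ₗ[F] V) : Prop := ∀ x y, B (g x) (g y) = B x y

theorem Iso.one (B : LinearMap.BilinForm F V) : Iso B 1 := fun _ _ => rfl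

theorem Iso.mul {B : LinearMap.BilinForm F V} {g h : V ≃ₗ[F] V} (hg : Iso B g) (hh : Iso B h) :
    Iso B (g * h) := fun x y => by
  rw [LinearEquiv.mul_apply, LinearEquiv.mul_apply, hg, hh]

theorem Iso.inv {B : LinearMap.BilinForm F V} {g : V ≃ₗ[F] V} (hg : Iso B g) : Iso B g⁻¹ := by
  intro x y
  have h := hg (g⁻¹ x) (g⁻¹ y)
  have hx : ∀ v, g (g⁻¹ v) = v := fun v => g.apply_symm_apply v
  rw [hx, hx] at h
  exact h.symm

theorem inv_app (g : V ≃ₗ[F] V) (v : V) : g⁻¹ (g v) = v := g.symm_apply_apply v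

theorem app_inv (g : V ≃ₗ[F] V) (v : V) : g (g⁻¹ v) = v := g.apply_symm_apply v

theorem Iso.adj {B : LinearMap.BilinForm F V} {g : V ≃ₗ[F] V} (hg : Iso B g) (x y : V) :
    B (g x) y = B x (g⁻¹ y) := by
  have h := hg x (g⁻¹ y)
  rwa [app_inv] at h

theorem Iso.adj' {B : LinearMap.BilinForm F V} {g : V ≃ₗ[F] V} (hg : Iso B g) (x y : V) :
    B x (g y) = B (g⁻¹ x) y := by
  have h := hg (g⁻¹ x) y
  rwa [app_inv] at h

/-- `g` is a commutator of two isometries of `B`. -/
def IsComm (B : LinearMap.BilinForm F V) (g : V ≃ₗ[F] V) : Prop :=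
  ∃ M T : V ≃ₗ[F] V, Iso B M ∧ Iso B T ∧ g = M * T * M⁻¹ * T⁻¹

/-- Two subspaces are orthogonal. -/
def Orth (B : LinearMap.BilinForm F V) (P Q : Submodule F V) : Prop := ∀ x ∈ P, ∀ y ∈ Q, B x y = 0

/-- There is a decomposition into isotropic `P`, `Q` with `(g - 1) P ≤ Q`. -/
def C1 (B : LinearMap.BilinForm F V) (g : V ≃ₗ[F] V) : Prop :=
  ∃ P Q : Submodule F V, Orth B P P ∧ Orth B Q Q ∧ P ⊔ Q = ⊤ ∧ ∀ v ∈ P, g v - v ∈ Q

/-- Skew-adjoint maps `V → Q` which kill `Q`. -/
def Skew (B : LinearMap.BilinForm F V) (Q : Submodule F V) : Submodule F (Module.End F V) where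
  carrier := {z | (∀ v, z v ∈ Q) ∧ (∀ v ∈ Q, z v = 0) ∧ ∀ x y, B (z x) y + B x (z y) = 0}
  zero_mem' := ⟨fun _ => Q.zero_mem, fun _ _ => rfl, fun x y => by simp⟩
  add_mem' := by
    rintro a b ⟨ha, ha', ha''⟩ ⟨hb, hb', hb''⟩
    refine ⟨fun v => Q.add_mem (ha v) (hb v), fun v hv => ?_, fun x y => ?_⟩
    · rw [LinearMap.add_apply, ha' v hv, hb' v hv, add_zero]
    · have h1 := ha'' x y
      have h2 := hb'' x y
      simp only [LinearMap.add_apply, map_add]
      linear_combination h1 + h2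
  smul_mem' := by
    rintro c a ⟨ha, ha', ha''⟩
    refine ⟨fun v => Q.smul_mem c (ha v), fun v hv => ?_, fun x y => ?_⟩
    · rw [LinearMap.smul_apply, ha' v hv, smul_zero]
    · have h1 := ha'' x y
      simp only [LinearMap.smul_apply, map_smul, smul_eq_mul]
      linear_combination c * h1

/-- The transvection-like map `1 + z` for `z² = 0`. -/
def uni (z : Module.End F V) (hz : ∀ v, z (z v) = 0) : V ≃ₗ[F] V where
  toFun v := v + z v
  map_add' x y := by rw [map_add]; abel
  map_smul' c x := by rw [map_smul, smul_add]; rfl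
  invFun v := v - z v
  left_inv v := by simp [hz]
  right_inv v := by simp [hz]

theorem uni_apply (z : Module.End F V) (hz : ∀ v, z (z v) = 0) (v : V) : uni z hz v = v + z v := rfl

theorem uni_inv_apply (z : Module.End F V) (hz : ∀ v, z (z v) = 0) (v : V) :
    (uni z hz)⁻¹ v = v - z v := rfl

theorem skew_sq {B : LinearMap.BilinForm F V} {Q : Submodule F V} {z : Module.End F V}
    (hz : z ∈ Skew B Q) (v : V) : z (z v) = 0 := hz.2.1 _ (hz.1 v)

theorem skew_iso {B : LinearMap.BilinForm F V} {Q : Submodule F V} (hQ : Orth B Q Q)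
    {z : Module.End F V} (hz : z ∈ Skew B Q) : Iso B (uni z (skew_sq hz)) := by
  intro x y
  have h1 := hz.2.2 x y
  have h2 := hQ _ (hz.1 x) _ (hz.1 y)
  simp only [uni_apply, map_add, LinearMap.add_apply, h2]
  linear_combination h1

end Basic

section Corner

variable {F V : Type*} [Field F] [AddCommGroup V] [Module F V] [FiniteDimensional F V]

theorem inv_mem_of_mem {X : V ≃ₗ[F] V} {Q : Submodule F V} (h : ∀ v ∈ Q, X v ∈ Q) :
    ∀ v ∈ Q, X⁻¹ v ∈ Q := by
  have h1 : Q.map (X : V →ₗ[F] V) ≤ Q := by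
    rintro _ ⟨v, hv, rfl⟩
    exact h v hv
  have h2 : Q.map (X : V →ₗ[F] V) = Q := by
    apply Submodule.eq_of_le_of_finrank_eq h1
    exact LinearEquiv.finrank_map_eq X Q
  intro v hv
  rw [← h2] at hv
  obtain ⟨w, hw, rfl⟩ := hv
  have : X⁻¹ ((X : V →ₗ[F] V) w) = w := inv_app X w
  rw [this]
  exact hw

/-- The Sylvester equation. -/
theorem sylvester {B : LinearMap.BilinForm F V} {P Q : Submodule F V} (hPQ : P ⊔ Q = ⊤)
    {X : V ≃ₗ[F] V} (hX : Iso B X) (hXQ : ∀ v ∈ Q, X v ∈ Q) (f : F[X])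
    (hfP : ∀ v ∈ P, aeval (X : Module.End F V) f v = 0)
    (hfQ : ∀ v ∈ Q, aeval (X : Module.End F V) f v = 0 → v = 0)
    {n : Module.End F V} (hn : n ∈ Skew B Q) :
    ∃ z ∈ Skew B Q, ∀ v, z (X v) = X (z v) + n (X v) := by
  have hXi := inv_mem_of_mem hXQ
  have key : ∀ z ∈ Skew B Q, z - X.conj z ∈ Skew B Q := by
    intro z hz
    refine (Skew B Q).sub_mem hz ⟨fun v => ?_, fun v hv => ?_, fun x y => ?_⟩
    · exact hXQ _ (hz.1 _)
    · have : z (X.symm v) = 0 := hz.2.1 _ (hXi v hv)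
      rw [LinearEquiv.conj_apply_apply, this, map_zero]
    · have h1 := hz.2.2 (X.symm x) (X.symm y)
      have h2 := hX (z (X.symm x)) (X.symm y)
      have h3 := hX (X.symm x) (z (X.symm y))
      rw [X.apply_symm_apply] at h2 h3
      rw [LinearEquiv.conj_apply_apply, LinearEquiv.conj_apply_apply, h2, h3, h1]
  let T : (Skew B Q) →ₗ[F] (Skew B Q) :=
    ((LinearMap.id - (X.conj : Module.End F V →ₗ[F] Module.End F V)) ∘ₗ (Skew B Q).subtype).codRestrict
      (Skew B Q) (fun z => key z.1 z.2)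
  have hT : Function.Injective T := by
    rw [← LinearMap.ker_eq_bot, LinearMap.ker_eq_bot']
    rintro ⟨z, hz⟩ h
    have h0 : z - X.conj z = 0 := congrArg Subtype.val h
    have hc : ∀ v, z (X v) = X (z v) := by
      intro v
      have := LinearMap.congr_fun h0 (X v)
      rw [LinearMap.sub_apply, LinearEquiv.conj_apply_apply, X.symm_apply_apply, LinearMap.zero_apply,
        sub_eq_zero] at this
      exact this
    have hcf : ∀ p : F[X], ∀ v, z (aeval (X : Module.End F V) p v) = aeval (X : Module.End F V) p (z v) := by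
      intro p v
      induction p using Polynomial.induction_on' generalizing v with
      | add p q hp hq => simp only [map_add, LinearMap.add_apply, hp, hq]
      | monomial k a =>
        have hk : ∀ k : ℕ, ∀ v, z (((X : Module.End F V) ^ k) v) = ((X : Module.End F V) ^ k) (z v) := by
          intro k
          induction k with
          | zero => intro v; simp
          | succ k ih =>
            intro v
            rw [pow_succ, Module.End.mul_apply, Module.End.mul_apply, ih]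
            congr 1
            exact hc v
        rw [aeval_monomial]
        simp only [Module.algebraMap_end_eq_smul_id, Module.End.mul_apply, LinearMap.smul_apply,
          LinearMap.id_apply, map_smul, hk]
    have hz0 : z = 0 := by
      ext v
      have hv : v ∈ P ⊔ Q := by rw [hPQ]; trivial
      obtain ⟨p, hp, q, hq, rfl⟩ := Submodule.mem_sup.1 hv
      rw [map_add, hz.2.1 q hq, add_zero, LinearMap.zero_apply]
      apply hfQ _ (hz.1 p)
      rw [← hcf, hfP p hp, map_zero]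
    exact Subtype.ext hz0
  have hS : Function.Surjective T := LinearMap.injective_iff_surjective.1 hT
  obtain ⟨⟨z, hz⟩, h⟩ := hS ⟨n, hn⟩
  have h0 : z - X.conj z = n := congrArg Subtype.val h
  refine ⟨z, hz, fun v => ?_⟩
  rw [← h0, LinearMap.sub_apply, LinearEquiv.conj_apply_apply, X.symm_apply_apply]
  abel

theorem comm_of_corner {B : LinearMap.BilinForm F V} {P Q : Submodule F V} (hP : Orth B P P)
    (hQ : Orth B Q Q) (hPQ : P ⊔ Q = ⊤) {X Z : V ≃ₗ[F] V} (hX : Iso B X) (hZ : Iso B Z)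
    (hXP : ∀ v ∈ P, X v ∈ P) (hXQ : ∀ v ∈ Q, X v ∈ Q) (hZP : ∀ v ∈ P, Z v ∈ P)
    (hZQ : ∀ v ∈ Q, Z v ∈ Q) (f f' : F[X])
    (hfP : ∀ v ∈ P, aeval (X : Module.End F V) f v = 0)
    (hfQ : ∀ v ∈ Q, aeval (X : Module.End F V) f v = 0 → v = 0)
    (hfQ' : ∀ v ∈ Q, aeval (X : Module.End F V) f' v = 0)
    (hfP' : ∀ v ∈ P, aeval (X : Module.End F V) f' v = 0 → v = 0)
    {n m : Module.End F V} (hn : n ∈ Skew B Q) (hm : m ∈ Skew B P) {g : V ≃ₗ[F] V}
    (hg : g = uni n (skew_sq hn) * (X * Z * X⁻¹ * Z⁻¹) * uni m (skew_sq hm)) : IsComm B g := by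
  -- first factor
  obtain ⟨z, hz, hzX⟩ := sylvester hPQ hX hXQ f hfP hfQ hn
  have h1 : uni z (skew_sq hz) * X = uni n (skew_sq hn) * X * uni z (skew_sq hz) := by
    ext v
    simp only [LinearEquiv.mul_apply, uni_apply, map_add]
    have : n (X (z v)) = 0 := hn.2.1 _ (hXQ _ (hz.1 v))
    rw [hzX, this]
    abel
  -- second factor
  set Y : V ≃ₗ[F] V := Z * X * Z⁻¹ with hY
  have hYi : Iso B Y := (hZ.mul hX).mul hZ.inv
  have hZPi := inv_mem_of_mem hZP
  have hZQi := inv_mem_of_mem hZQ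
  have hYP : ∀ v ∈ P, Y v ∈ P := fun v hv => hZP _ (hXP _ (hZPi v hv))
  have hYf : ∀ p : F[X], ∀ v, aeval (Y : Module.End F V) p v = Z (aeval (X : Module.End F V) p (Z⁻¹ v)) := by
    intro p v
    induction p using Polynomial.induction_on' generalizing v with
    | add p q hp hq => simp only [map_add, LinearMap.add_apply, hp, hq]
    | monomial k a =>
      have hk : ∀ k : ℕ, ∀ v, ((Y : Module.End F V) ^ k) v = Z (((X : Module.End F V) ^ k) (Z⁻¹ v)) := by
        intro k
        induction k with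
        | zero => intro v; simp
        | succ k ih =>
          intro v
          rw [pow_succ, Module.End.mul_apply, pow_succ, Module.End.mul_apply, ih]
          have : Z⁻¹ ((Y : Module.End F V) v) = (X : Module.End F V) (Z⁻¹ v) := inv_app Z _
          rw [this]
      simp only [aeval_monomial, Module.algebraMap_end_eq_smul_id, Module.End.mul_apply, LinearMap.smul_apply,
        LinearMap.id_apply, map_smul, hk]
  have hm' : -m ∈ Skew B P := (Skew B P).neg_mem hm
  have hQP : Q ⊔ P = ⊤ := by rw [sup_comm]; exact hPQ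
  obtain ⟨w, hw, hwY⟩ := sylvester hQP hYi hYP f'
    (fun v hv => by rw [hYf, hfQ' _ (hZQi v hv), map_zero])
    (fun v hv h => by
      rw [hYf] at h
      have h2 : aeval (X : Module.End F V) f' (Z⁻¹ v) = 0 := by
        have := congrArg (fun t => Z⁻¹ t) h
        simpa [inv_app] using this
      have h3 := hfP' _ (hZPi v hv) h2
      have h4 := congrArg (fun t => Z t) h3
      simpa [app_inv] using h4) hm'
  have h2 : uni w (skew_sq hw) * Y = (uni m (skew_sq hm))⁻¹ * Y * uni w (skew_sq hw) := by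
    ext v
    simp only [LinearEquiv.mul_apply, uni_apply, uni_inv_apply, map_add]
    have : m (Y (w v)) = 0 := hm.2.1 _ (hYP _ (hw.1 v))
    rw [hwY, this, LinearMap.neg_apply]
    abel
  have hui : Iso B (uni z (skew_sq hz)) := skew_iso hQ hz
  have hti : Iso B (uni w (skew_sq hw)) := skew_iso hP hw
  clear_value Y
  generalize uni n (skew_sq hn) = a at *
  generalize uni m (skew_sq hm) = b at *
  generalize uni z (skew_sq hz) = u at *
  generalize uni w (skew_sq hw) = t at *
  have e1 : a * X = u * X * u⁻¹ := by rw [h1]; group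
  have e2 : Y⁻¹ * b = t * Y⁻¹ * t⁻¹ := by
    have : b⁻¹ * Y = t * Y * t⁻¹ := by rw [h2]; group
    have h3 := congrArg (fun s => s⁻¹) this
    simp only [mul_inv_rev, inv_inv] at h3
    rw [h3]
    group
  refine ⟨u * X * u⁻¹, t * Z * u⁻¹, (hui.mul hX).mul hui.inv, (hti.mul hZ).mul hui.inv, ?_⟩
  calc g = (a * X) * (Y⁻¹ * b) := by rw [hg, hY]; group
    _ = (u * X * u⁻¹) * (t * Y⁻¹ * t⁻¹) := by rw [e1, e2]
    _ = _ := by rw [hY]; group

end Corner

end Cfsg.Agent.H144
end

-- part: H144/Sing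
section
/-!
# Singer cycles whose characteristic polynomial is prime to its reciprocal

* `exists_singer` : over a finite field `F` with `5 ≤ q ^ n` or `4 ≤ q` there is an extension `K` of degree `n`
  and `ξ ∈ K` such that `ξ⁻¹` is not a conjugate of `ξ`.
* `sing_one`, `sing_neg` : the elements of `GL(P)` used for the corners `1` and `-1`.
* `comm_of_factor` : the version of `comm_of_corner` with data on `P` only, for an alternating form.
-/

set_option autoImplicit false
open Polynomial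

namespace Cfsg.Agent.H144

theorem exists_singer (F : Type*) [Field F] [Finite F] (n : ℕ) (hn : n ≠ 0)
    (h : 5 ≤ Nat.card F ^ n ∨ 4 ≤ Nat.card F) :
    ∃ (K : Type) (_ : Field K) (_ : Algebra F K) (_ : FiniteDimensional F K), Module.finrank F K = n ∧
      ∃ ξ : K, ξ ≠ 0 ∧ aeval ξ⁻¹ (minpoly F ξ) ≠ 0 ∧ aeval ξ (minpoly F ξ⁻¹) ≠ 0 := by
  have : NeZero n := ⟨hn⟩
  obtain ⟨p, hp⟩ := CharP.exists F
  have : Fact p.Prime := ⟨CharP.char_is_prime F p⟩
  refine ⟨FiniteField.Extension F p n, inferInstance, inferInstance, inferInstance,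
    FiniteField.finrank_extension F p n, ?_⟩
  obtain ⟨u, hu⟩ := IsCyclic.exists_generator (α := (FiniteField.Extension F p n)ˣ)
  have key : ¬ IsConjRoot F (u : FiniteField.Extension F p n) (u⁻¹ : (FiniteField.Extension F p n)ˣ) := by
    rw [isConjRoot_iff_exists_algEquiv]
    rintro ⟨σ, hσ⟩
    have h1 : ∀ a : (FiniteField.Extension F p n)ˣ, σ (a : FiniteField.Extension F p n) =
        ((a⁻¹ : (FiniteField.Extension F p n)ˣ) : FiniteField.Extension F p n) := by
      have hσu : σ (u : FiniteField.Extension F p n) =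
          ((u⁻¹ : (FiniteField.Extension F p n)ˣ) : FiniteField.Extension F p n) := by
        have h2 : σ ((u⁻¹ : (FiniteField.Extension F p n)ˣ) : FiniteField.Extension F p n) *
          σ (u : FiniteField.Extension F p n) = 1 := by
          rw [← map_mul, ← Units.val_mul, inv_mul_cancel, Units.val_one, map_one]
        rw [hσ] at h2
        rw [eq_comm]
        exact Units.inv_eq_of_mul_eq_one_right h2
      intro a
      obtain ⟨k, rfl⟩ := Subgroup.mem_zpowers_iff.1 (hu a)
      have h3 : Units.map (σ : FiniteField.Extension F p n →* FiniteField.Extension F p n) u = u⁻¹ :=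
        Units.ext hσu
      have h4 : Units.map (σ : FiniteField.Extension F p n →* FiniteField.Extension F p n) (u ^ k) =
        (u ^ k)⁻¹ := by rw [map_zpow, h3, inv_zpow]
      exact congrArg Units.val h4
    have h2 : ∀ a : FiniteField.Extension F p n, a ≠ 0 → σ a = a⁻¹ := by
      intro a ha
      have := h1 (Units.mk0 a ha)
      simpa using this
    rcases h with h | h
    · -- every element satisfies `t (t + 1) (t² + t + 1) = 0`
      have : Fintype (FiniteField.Extension F p n) := Fintype.ofFinite _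
      have h3 := Polynomial.eq_zero_of_natDegree_lt_card_of_eval_eq_zero
        (X * (X + 1) * (X ^ 2 + X + 1) : (FiniteField.Extension F p n)[X]) Function.injective_id (by
          intro a
          simp only [id, eval_mul, eval_add, eval_X, eval_one, eval_pow]
          by_cases ha : a = 0
          · simp [ha]
          by_cases ha' : a + 1 = 0
          · simp [ha']
          have h4 := h2 (a + 1) ha'
          rw [map_add, map_one, h2 a ha] at h4
          have h5 : a ^ 2 + a + 1 = 0 := by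
            field_simp at h4
            linear_combination h4
          rw [h5, mul_zero]) (by
          have h4 : (X * (X + 1) * (X ^ 2 + X + 1) : (FiniteField.Extension F p n)[X]).natDegree ≤ 4 := by
            compute_degree
          have h5 := FiniteField.natCard_extension F p n
          rw [Nat.card_eq_fintype_card] at h5
          omega)
      have h4 : (X * (X + 1) * (X ^ 2 + X + 1) : (FiniteField.Extension F p n)[X]).coeff 4 = 1 := by
        have : (X * (X + 1) * (X ^ 2 + X + 1) : (FiniteField.Extension F p n)[X]) =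
          X ^ 4 + C 2 * X ^ 3 + C 2 * X ^ 2 + X := by
          simp only [map_ofNat]; ring
        rw [this]
        simp [coeff_X]
      rw [h3] at h4
      simp at h4
    · have : Fintype F := Fintype.ofFinite _
      have h3 := Polynomial.eq_zero_of_natDegree_lt_card_of_eval_eq_zero
        (X * (X ^ 2 - 1) : F[X]) Function.injective_id (by
          intro a
          simp only [id, eval_mul, eval_sub, eval_X, eval_one, eval_pow]
          by_cases ha : a = 0
          · simp [ha]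
          have h4 := h2 (algebraMap F _ a) (by simpa using ha)
          rw [AlgEquiv.commutes, ← map_inv₀] at h4
          have h5 := (algebraMap F (FiniteField.Extension F p n)).injective h4
          have h6 : a ^ 2 = 1 := by
            rw [pow_two]
            nth_rewrite 2 [h5]
            exact mul_inv_cancel₀ ha
          rw [h6]; ring) (by
          have h4 : (X * (X ^ 2 - 1) : F[X]).natDegree ≤ 3 := by
            compute_degree
          rw [Nat.card_eq_fintype_card] at h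
          omega)
      have h4 : (X * (X ^ 2 - 1) : F[X]).coeff 3 = 1 := by
        have : (X * (X ^ 2 - 1) : F[X]) = X ^ 3 - X := by ring
        rw [this]
        simp [coeff_X]
      rw [h3] at h4
      simp at h4
  refine ⟨u, u.ne_zero, ?_, ?_⟩
  · intro h0
    apply key
    rw [← Units.val_inv_eq_inv_val] at h0
    exact minpoly.eq_of_irreducible_of_monic (minpoly.irreducible (Algebra.IsIntegral.isIntegral _)) h0
      (minpoly.monic (Algebra.IsIntegral.isIntegral _))
  · intro h0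
    apply key
    rw [← Units.val_inv_eq_inv_val] at h0
    exact (minpoly.eq_of_irreducible_of_monic (minpoly.irreducible (Algebra.IsIntegral.isIntegral _)) h0
      (minpoly.monic (Algebra.IsIntegral.isIntegral _))).symm

variable {F V : Type*} [Field F] [AddCommGroup V] [Module F V]

/-- The polynomial conditions on `x`. -/
def Sing (x : V ≃ₗ[F] V) (f f' : F[X]) : Prop :=
  (∀ v, aeval (x : Module.End F V) f v = 0) ∧
  (∀ v, aeval ((x⁻¹ : V ≃ₗ[F] V) : Module.End F V) f v = 0 → v = 0) ∧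
  (∀ v, aeval ((x⁻¹ : V ≃ₗ[F] V) : Module.End F V) f' v = 0) ∧
  (∀ v, aeval (x : Module.End F V) f' v = 0 → v = 0)

theorem aeval_conj {M : Type*} [AddCommGroup M] [Module F M] (e : V ≃ₗ[F] M) (x : M ≃ₗ[F] M) (x' : V ≃ₗ[F] V)
    (h : ∀ v, x' v = e.symm (x (e v))) (p : F[X]) (v : V) :
    aeval (x' : Module.End F V) p v = e.symm (aeval (x : Module.End F M) p (e v)) := by
  induction p using Polynomial.induction_on' generalizing v with
  | add p q hp hq => simp only [map_add, LinearMap.add_apply, hp, hq]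
  | monomial k a =>
    have hk : ∀ k : ℕ, ∀ v, ((x' : Module.End F V) ^ k) v = e.symm (((x : Module.End F M) ^ k) (e v)) := by
      intro k
      induction k with
      | zero => intro v; simp
      | succ k ih =>
        intro v
        rw [pow_succ', Module.End.mul_apply, ih, pow_succ', Module.End.mul_apply]
        change x' _ = _
        rw [h, e.apply_symm_apply]
        rfl
    simp only [aeval_monomial, Module.algebraMap_end_eq_smul_id, Module.End.mul_apply, LinearMap.smul_apply,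
      LinearMap.id_apply, hk, map_smul]

theorem Sing.conj {M : Type*} [AddCommGroup M] [Module F M] (e : V ≃ₗ[F] M) {x : M ≃ₗ[F] M} {f f' : F[X]}
    (hx : Sing x f f') {x' : V ≃ₗ[F] V} (h : ∀ v, x' v = e.symm (x (e v))) : Sing x' f f' := by
  have hi : ∀ v, x'⁻¹ v = e.symm (x⁻¹ (e v)) := by
    intro v
    have : x' (e.symm (x⁻¹ (e v))) = v := by
      rw [h, e.apply_symm_apply, app_inv, e.symm_apply_apply]
    rw [← this, inv_app, this]
  refine ⟨fun v => ?_, fun v hv => ?_, fun v => ?_, fun v hv => ?_⟩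
  · rw [aeval_conj e x x' h, hx.1, map_zero]
  · rw [aeval_conj e x⁻¹ x'⁻¹ hi] at hv
    exact e.map_eq_zero_iff.1 (hx.2.1 _ (e.symm.map_eq_zero_iff.1 hv))
  · rw [aeval_conj e x⁻¹ x'⁻¹ hi, hx.2.2.1, map_zero]
  · rw [aeval_conj e x x' h] at hv
    exact e.map_eq_zero_iff.1 (hx.2.2.2 _ (e.symm.map_eq_zero_iff.1 hv))

theorem aeval_smul {K M : Type*} [Field K] [Algebra F K] [AddCommGroup M] [Module K M] [Module F M]
    [IsScalarTower F K M] (ξ : K) (y : Module.End F M) (hy : ∀ v, y v = ξ • v) (p : F[X]) (v : M) :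
    aeval y p v = (aeval ξ p) • v := by
  induction p using Polynomial.induction_on' generalizing v with
  | add p q hp hq => simp only [map_add, LinearMap.add_apply, hp, hq, add_smul]
  | monomial k a =>
    have hk : ∀ k : ℕ, ∀ v, (y ^ k) v = ξ ^ k • v := by
      intro k
      induction k with
      | zero => intro v; simp
      | succ k ih =>
        intro v
        rw [pow_succ', Module.End.mul_apply, ih, hy, smul_smul, pow_succ']
    simp only [aeval_monomial, Module.algebraMap_end_eq_smul_id, Module.End.mul_apply, LinearMap.smul_apply,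
      LinearMap.id_apply, hk]
    rw [mul_smul, algebraMap_smul]

theorem sing_smul {K M : Type*} [Field K] [Algebra F K] [AddCommGroup M] [Module K M] [Module F M]
    [IsScalarTower F K M] (ξ : K) (hξ : ξ ≠ 0) (h1 : aeval ξ⁻¹ (minpoly F ξ) ≠ 0)
    (h2 : aeval ξ (minpoly F ξ⁻¹) ≠ 0) (y : M ≃ₗ[F] M) (hy : ∀ v, y v = ξ • v) :
    Sing y (minpoly F ξ) (minpoly F ξ⁻¹) := by
  have hi : ∀ v, (y⁻¹ : M ≃ₗ[F] M) v = ξ⁻¹ • v := by
    intro v
    have : y (ξ⁻¹ • v) = v := by rw [hy, smul_smul, mul_inv_cancel₀ hξ, one_smul]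
    nth_rewrite 1 [← this]
    rw [inv_app]
  refine ⟨fun v => ?_, fun v hv => ?_, fun v => ?_, fun v hv => ?_⟩
  · rw [aeval_smul ξ _ hy, minpoly.aeval, zero_smul]
  · rw [aeval_smul ξ⁻¹ _ hi] at hv
    exact (smul_eq_zero.1 hv).resolve_left h1
  · rw [aeval_smul ξ⁻¹ _ hi, minpoly.aeval, zero_smul]
  · rw [aeval_smul ξ _ hy] at hv
    exact (smul_eq_zero.1 hv).resolve_left h2

theorem Sing.expand {x y : V ≃ₗ[F] V} (h : ∀ v, x (x v) = y v) {f f' : F[X]} (hy : Sing y f f') :
    Sing x (Polynomial.expand F 2 f) (Polynomial.expand F 2 f') := by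
  have h1 : (x : Module.End F V) ^ 2 = (y : Module.End F V) := by
    ext v
    rw [pow_two, Module.End.mul_apply]
    exact h v
  have h2 : ((x⁻¹ : V ≃ₗ[F] V) : Module.End F V) ^ 2 = ((y⁻¹ : V ≃ₗ[F] V) : Module.End F V) := by
    ext v
    rw [pow_two, Module.End.mul_apply]
    change x⁻¹ (x⁻¹ v) = y⁻¹ v
    have h3 : y (x⁻¹ (x⁻¹ v)) = v := by rw [← h, app_inv, app_inv]
    nth_rewrite 2 [← h3]
    rw [inv_app]
  refine ⟨fun v => ?_, fun v hv => ?_, fun v => ?_, fun v hv => ?_⟩
  · rw [expand_aeval, h1, hy.1]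
  · rw [expand_aeval, h2] at hv
    exact hy.2.1 _ hv
  · rw [expand_aeval, h2, hy.2.2.1]
  · rw [expand_aeval, h1] at hv
    exact hy.2.2.2 _ hv

theorem sing_one [Finite F] [FiniteDimensional F V] (hV : Module.finrank F V ≠ 0)
    (h : 5 ≤ Nat.card F ^ Module.finrank F V ∨ 4 ≤ Nat.card F) :
    ∃ (x : V ≃ₗ[F] V) (f f' : F[X]), Sing x f f' := by
  obtain ⟨K, _, _, _, hK, ξ, hξ, h1, h2⟩ := exists_singer F (Module.finrank F V) hV h
  let e : V ≃ₗ[F] K := LinearEquiv.ofFinrankEq V K hK.symm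
  let y : K ≃ₗ[F] K := LinearEquiv.ofLinearMap
    (LinearMap.mulLeft F ξ) (LinearMap.mulLeft F ξ⁻¹)
    (by ext v; simp [mul_inv_cancel_left₀ hξ]) (by ext v; simp [inv_mul_cancel_left₀ hξ])
  exact ⟨e.trans (y.trans e.symm), _, _, (sing_smul ξ hξ h1 h2 y (fun v => rfl)).conj e (fun v => rfl)⟩

theorem sing_neg [Finite F] [FiniteDimensional F V] (j : ℕ) (hj : j ≠ 0) (hV : Module.finrank F V = 2 * j)
    (h : 5 ≤ Nat.card F ^ j ∨ 4 ≤ Nat.card F) :
    ∃ (x z : V ≃ₗ[F] V) (f f' : F[X]), Sing x f f' ∧ ∀ v, x (z (x⁻¹ (z⁻¹ v))) = -v := by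
  obtain ⟨K, _, _, _, hK, ξ, hξ, h1, h2⟩ := exists_singer F j hj h
  let e : V ≃ₗ[F] (K × K) := LinearEquiv.ofFinrankEq V (K × K) (by
    rw [Module.finrank_prod, hK, hV]; ring)
  let y : (K × K) ≃ₗ[F] (K × K) := LinearEquiv.ofLinearMap
    (LinearMap.prodMap (LinearMap.mulLeft F ξ) (LinearMap.mulLeft F ξ))
    (LinearMap.prodMap (LinearMap.mulLeft F ξ⁻¹) (LinearMap.mulLeft F ξ⁻¹))
    (by ext v <;> simp [mul_inv_cancel_left₀ hξ]) (by ext v <;> simp [inv_mul_cancel_left₀ hξ])
  let x : (K × K) ≃ₗ[F] (K × K) := LinearEquiv.ofLinearMap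
    (((LinearMap.mulLeft F ξ) ∘ₗ LinearMap.snd F K K).prod (LinearMap.fst F K K))
    ((LinearMap.snd F K K).prod ((LinearMap.mulLeft F ξ⁻¹) ∘ₗ LinearMap.fst F K K))
    (by ext v <;> simp [mul_inv_cancel_left₀ hξ]) (by ext v <;> simp [inv_mul_cancel_left₀ hξ])
  let z : (K × K) ≃ₗ[F] (K × K) := LinearEquiv.ofLinearMap
    (LinearMap.prodMap LinearMap.id (-LinearMap.id)) (LinearMap.prodMap LinearMap.id (-LinearMap.id))
    (by ext v <;> simp) (by ext v <;> simp)
  have hy : Sing y (minpoly F ξ) (minpoly F ξ⁻¹) := sing_smul ξ hξ h1 h2 y (fun v => rfl)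
  have hx := hy.expand (x := x) (fun v => rfl)
  refine ⟨e.trans (x.trans e.symm), e.trans (z.trans e.symm), _, _, hx.conj e (fun v => rfl), fun v => ?_⟩
  have hx' : ∀ w, (e.trans (x.trans e.symm))⁻¹ w = e.symm (x.symm (e w)) := fun w => rfl
  have hz' : ∀ w, (e.trans (z.trans e.symm))⁻¹ w = e.symm (z.symm (e w)) := fun w => rfl
  rw [hx', hz']
  change e.symm (x (e (e.symm (z (e (e.symm (x.symm (e (e.symm (z.symm (e v)))))))))) ) = -v
  simp only [e.apply_symm_apply]
  rw [e.symm_apply_eq, map_neg]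
  obtain ⟨a, b⟩ := e v
  change (ξ * -(ξ⁻¹ * a), -b) = -(a, b)
  rw [mul_neg, mul_inv_cancel_left₀ hξ]
  rfl

end Cfsg.Agent.H144
end

-- part: H144/Levi
section
/-!
# The Levi subgroup `GL(P)` of the symplectic group of `V = P ⊕ Q`, and corners `1` and `-1`

`B` alternating and nondegenerate, `P`, `Q` totally isotropic with `P ⊔ Q = ⊤`.
* `levi` : every `x ∈ GL(P)` extends to an isometry preserving `Q`.
* `c1_factor` : if `(g - 1) P ≤ Q` then `g = (1 + n) (1 + m)`.
* `c1_comm` : `C1 B g` implies `IsComm B g` if `5 ≤ q ^ n` or `4 ≤ q`, where `dim V = 2 n`.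
* `c1_neg_comm` : the same for `C1 B (-g)`, `n = 2 j` and `5 ≤ q ^ j` or `4 ≤ q`.
-/

set_option autoImplicit false
open Polynomial

namespace Cfsg.Agent.H144

variable {F V : Type*} [Field F] [AddCommGroup V] [Module F V]

/-- Alternating. -/
def Alt (B : LinearMap.BilinForm F V) : Prop := ∀ v, B v v = 0

/-- Nondegenerate. -/
def Nond (B : LinearMap.BilinForm F V) : Prop := ∀ v, (∀ w, B v w = 0) → v = 0

theorem Alt.neg {B : LinearMap.BilinForm F V} (hB : Alt B) (x y : V) : B x y = - B y x := by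
  have h := hB (x + y)
  simp only [map_add, LinearMap.add_apply, hB x, hB y] at h
  linear_combination h

theorem Alt.zero {B : LinearMap.BilinForm F V} (hB : Alt B) {x y : V} (h : B x y = 0) : B y x = 0 := by
  rw [hB.neg, h, neg_zero]

theorem Orth.symm {B : LinearMap.BilinForm F V} (hB : Alt B) {P Q : Submodule F V} (h : Orth B P Q) :
    Orth B Q P := fun x hx y hy => hB.zero (h y hy x hx)

theorem mem_sup_top {P Q : Submodule F V} (h : P ⊔ Q = ⊤) (v : V) : ∃ p ∈ P, ∃ q ∈ Q, p + q = v :=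
  Submodule.mem_sup.1 (by rw [h]; trivial)

theorem eq_zero_of_orth {B : LinearMap.BilinForm F V} (hN : Nond B) {P Q : Submodule F V}
    (hPQ : P ⊔ Q = ⊤) {v : V} (h1 : ∀ w ∈ P, B v w = 0) (h2 : ∀ w ∈ Q, B v w = 0) : v = 0 := by
  apply hN
  intro w
  obtain ⟨p, hp, q, hq, rfl⟩ := mem_sup_top hPQ w
  rw [map_add, h1 p hp, h2 q hq, add_zero]

theorem isCompl_of {B : LinearMap.BilinForm F V} (hN : Nond B) {P Q : Submodule F V}
    (hP : Orth B P P) (hQ : Orth B Q Q) (hPQ : P ⊔ Q = ⊤) : IsCompl P Q := by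
  refine ⟨?_, codisjoint_iff.2 hPQ⟩
  rw [Submodule.disjoint_def]
  intro v hv hv'
  exact eq_zero_of_orth hN hPQ (hP v hv) (hQ v hv')

/-- `P = P^⊥`. -/
theorem mem_of_orth {B : LinearMap.BilinForm F V} (hN : Nond B) {P Q : Submodule F V}
    (hP : Orth B P P) (hQ : Orth B Q Q) (hPQ : P ⊔ Q = ⊤) {v : V}
    (h : ∀ w ∈ P, B v w = 0) : v ∈ P := by
  obtain ⟨p, hp, q, hq, rfl⟩ := mem_sup_top hPQ v
  have : q = 0 := by
    apply eq_zero_of_orth hN hPQ _ (hQ q hq)
    intro w hw
    have := h w hw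
    rwa [map_add, LinearMap.add_apply, hP p hp w hw, zero_add] at this
  rw [this, add_zero]
  exact hp

theorem aeval_adj {B : LinearMap.BilinForm F V} {X : V ≃ₗ[F] V} (hX : Iso B X) (f : F[X]) (v w : V) :
    B v (aeval (X : Module.End F V) f w) = B (aeval ((X⁻¹ : V ≃ₗ[F] V) : Module.End F V) f v) w := by
  induction f using Polynomial.induction_on' generalizing v w with
  | add p q hp hq => simp only [map_add, LinearMap.add_apply, hp, hq]
  | monomial k a =>
    have hk : ∀ k : ℕ, ∀ v w, B v (((X : Module.End F V) ^ k) w) =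
        B ((((X⁻¹ : V ≃ₗ[F] V) : Module.End F V) ^ k) v) w := by
      intro k
      induction k with
      | zero => intro v w; simp
      | succ k ih =>
        intro v w
        rw [pow_succ, Module.End.mul_apply, ih, pow_succ', Module.End.mul_apply]
        exact hX.adj' _ _
    simp only [aeval_monomial, Module.algebraMap_end_eq_smul_id, Module.End.mul_apply, LinearMap.smul_apply,
      LinearMap.id_apply, hk, map_smul]

theorem aeval_mem {X : Module.End F V} {P : Submodule F V} (h : ∀ v ∈ P, X v ∈ P) (f : F[X]) :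
    ∀ v ∈ P, aeval X f v ∈ P := by
  intro v hv
  induction f using Polynomial.induction_on' with
  | add p q hp hq => simpa only [map_add, LinearMap.add_apply] using P.add_mem hp hq
  | monomial k a =>
    have hk : ∀ k : ℕ, (X ^ k) v ∈ P := by
      intro k
      induction k with
      | zero => simpa using hv
      | succ k ih =>
        rw [pow_succ', Module.End.mul_apply]
        exact h _ ih
    simp only [aeval_monomial, Module.algebraMap_end_eq_smul_id, Module.End.mul_apply, LinearMap.smul_apply,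
      LinearMap.id_apply]
    exact P.smul_mem _ (hk k)

theorem aeval_restrict {X : Module.End F V} {P : Submodule F V} {x : Module.End F P}
    (h : ∀ v : P, X v = x v) (f : F[X]) (v : P) : aeval X f v = (aeval x f v : P) := by
  induction f using Polynomial.induction_on' with
  | add p q hp hq => simp only [map_add, LinearMap.add_apply, hp, hq, Submodule.coe_add]
  | monomial k a =>
    have hk : ∀ k : ℕ, (X ^ k) v = ((x ^ k) v : P) := by
      intro k
      induction k with
      | zero => simp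
      | succ k ih =>
        rw [pow_succ', Module.End.mul_apply, ih, h, pow_succ', Module.End.mul_apply]
    simp only [aeval_monomial, Module.algebraMap_end_eq_smul_id, Module.End.mul_apply, LinearMap.smul_apply,
      LinearMap.id_apply, hk, Submodule.coe_smul]

section FD

variable [FiniteDimensional F V]

theorem finrank_eq {B : LinearMap.BilinForm F V} (hB : Alt B) (hN : Nond B) {P Q : Submodule F V}
    (hP : Orth B P P) (hQ : Orth B Q Q) (hPQ : P ⊔ Q = ⊤) : Module.finrank F P = Module.finrank F Q := by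
  have key : ∀ P Q : Submodule F V, Orth B P P → Orth B Q Q → P ⊔ Q = ⊤ →
      Module.finrank F Q ≤ Module.finrank F P := by
    intro P Q hP hQ hPQ
    let e : Q →ₗ[F] Module.Dual F P := (B.compl₁₂ P.subtype Q.subtype).flip
    have he : Function.Injective e := by
      rw [← LinearMap.ker_eq_bot, LinearMap.ker_eq_bot']
      intro q hq
      have : (q : V) = 0 := by
        apply eq_zero_of_orth hN hPQ _ (hQ q q.2)
        intro w hw
        have := LinearMap.congr_fun hq ⟨w, hw⟩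
        exact hB.zero this
      exact Subtype.ext this
    have := LinearMap.finrank_le_finrank_of_injective he
    rwa [Subspace.dual_finrank_eq] at this
  exact le_antisymm (key Q P hQ hP (by rw [sup_comm]; exact hPQ)) (key P Q hP hQ hPQ)

theorem finrank_two {B : LinearMap.BilinForm F V} (hB : Alt B) (hN : Nond B) {P Q : Submodule F V}
    (hP : Orth B P P) (hQ : Orth B Q Q) (hPQ : P ⊔ Q = ⊤) :
    Module.finrank F V = 2 * Module.finrank F P := by
  have h := isCompl_of hN hP hQ hPQ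
  have h1 := Submodule.finrank_add_eq_of_isCompl h
  have h2 := finrank_eq hB hN hP hQ hPQ
  omega

theorem levi {B : LinearMap.BilinForm F V} (hB : Alt B) (hN : Nond B) {P Q : Submodule F V}
    (hP : Orth B P P) (hQ : Orth B Q Q) (hPQ : P ⊔ Q = ⊤) (x : P ≃ₗ[F] P) :
    ∃ X : V ≃ₗ[F] V, Iso B X ∧ (∀ v : P, X v = x v) ∧ (∀ v ∈ Q, X v ∈ Q) := by
  have hc := isCompl_of hN hP hQ hPQ
  let e₀ : Q →ₗ[F] Module.Dual F P := (B.compl₁₂ P.subtype Q.subtype).flip
  have he₀ : Function.Injective e₀ := by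
    rw [← LinearMap.ker_eq_bot, LinearMap.ker_eq_bot']
    intro q hq
    have : (q : V) = 0 := by
      apply eq_zero_of_orth hN hPQ _ (hQ q q.2)
      intro w hw
      have := LinearMap.congr_fun hq ⟨w, hw⟩
      exact hB.zero this
    exact Subtype.ext this
  let e : Q ≃ₗ[F] Module.Dual F P := LinearEquiv.ofInjectiveOfFinrankEq e₀ he₀ (by
    rw [Subspace.dual_finrank_eq]; exact (finrank_eq hB hN hP hQ hPQ).symm)
  have he : ∀ (q : Q) (p : P), e q p = B p q := fun q p => rfl
  let x' : Q ≃ₗ[F] Q := e.trans (x.symm.dualMap.trans e.symm)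
  have hx' : ∀ (p : P) (q : Q), B (x p) (x' q) = B p q := by
    intro p q
    rw [← he, ← he]
    change e (e.symm (x.symm.dualMap (e q))) (x p) = _
    rw [e.apply_symm_apply, LinearEquiv.dualMap_apply, x.symm_apply_apply]
  let E := Submodule.prodEquivOfIsCompl P Q hc
  have hE : ∀ (p : P) (q : Q), E.symm (p + q) = (p, q) := by
    intro p q
    rw [E.symm_apply_eq]
    rfl
  let X : V ≃ₗ[F] V := E.symm.trans ((x.prodCongr x').trans E)
  have hX : ∀ (p : P) (q : Q), X (p + q) = x p + x' q := by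
    intro p q
    change E ((x.prodCongr x') (E.symm (p + q))) = _
    rw [hE]
    rfl
  refine ⟨X, ?_, fun v => ?_, fun v hv => ?_⟩
  · intro v w
    obtain ⟨p, hp, q, hq, rfl⟩ := mem_sup_top hPQ v
    obtain ⟨p', hp', q', hq', rfl⟩ := mem_sup_top hPQ w
    have h1 := hX ⟨p, hp⟩ ⟨q, hq⟩
    have h2 := hX ⟨p', hp'⟩ ⟨q', hq'⟩
    simp only at h1 h2
    rw [h1, h2]
    simp only [map_add, LinearMap.add_apply]
    rw [hP _ (x ⟨p, hp⟩).2 _ (x ⟨p', hp'⟩).2, hQ _ (x' ⟨q, hq⟩).2 _ (x' ⟨q', hq'⟩).2,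
      hP p hp p' hp', hQ q hq q' hq', hx', hB.neg (x' ⟨q, hq⟩ : V), hx', hB.neg q]
  · have := hX v 0
    simpa using this
  · have := hX 0 ⟨v, hv⟩
    simp only [Submodule.coe_zero, zero_add, map_zero] at this
    rw [this]
    exact (x' ⟨v, hv⟩).2

/-- An isometry which preserves `Q` and is the scalar `c = ± 1` on `P` is the scalar `c`. -/
theorem levi_unique {B : LinearMap.BilinForm F V} (hB : Alt B) (hN : Nond B) {P Q : Submodule F V}
    (hP : Orth B P P) (hQ : Orth B Q Q) (hPQ : P ⊔ Q = ⊤) {D : V ≃ₗ[F] V} (hD : Iso B D)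
    (hDQ : ∀ v ∈ Q, D v ∈ Q) (c : F) (hc : c * c = 1) (hDP : ∀ v ∈ P, D v = c • v) (v : V) : D v = c • v := by
  obtain ⟨p, hp, q, hq, rfl⟩ := mem_sup_top hPQ v
  have : D q - c • q = 0 := by
    apply eq_zero_of_orth hN hPQ
    · intro w hw
      have h1 := hD q w
      rw [hDP w hw, map_smul, smul_eq_mul] at h1
      rw [map_sub, LinearMap.sub_apply, map_smul, LinearMap.smul_apply, smul_eq_mul]
      linear_combination c * h1 - (B (D q) w) * hc
    · intro w hw
      exact hQ _ (Q.sub_mem (hDQ q hq) (Q.smul_mem c hq)) w hw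
  rw [map_add, hDP p hp, sub_eq_zero.1 this, smul_add]

theorem c1_factor {B : LinearMap.BilinForm F V} (hB : Alt B) (hN : Nond B) {P Q : Submodule F V}
    (hP : Orth B P P) (hQ : Orth B Q Q) (hPQ : P ⊔ Q = ⊤) {g : V ≃ₗ[F] V} (hg : Iso B g)
    (h : ∀ v ∈ P, g v - v ∈ Q) :
    ∃ (n m : Module.End F V) (hn : n ∈ Skew B Q) (hm : m ∈ Skew B P),
      g = uni n (skew_sq hn) * uni m (skew_sq hm) := by
  have hc := isCompl_of hN hP hQ hPQ
  let n : Module.End F V := ((g : V →ₗ[F] V) - LinearMap.id) ∘ₗ P.projection Q hc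
  have hnP : ∀ v ∈ P, n v = g v - v := by
    intro v hv
    change g (P.projection Q hc v) - P.projection Q hc v = _
    rw [Submodule.projection_apply_of_mem_left hc hv]
  have hnQ : ∀ v ∈ Q, n v = 0 := by
    intro v hv
    change g (P.projection Q hc v) - P.projection Q hc v = _
    rw [Submodule.projection_apply_of_mem_right hc hv, map_zero, sub_zero]
  have hn : n ∈ Skew B Q := by
    refine ⟨fun v => ?_, hnQ, fun v w => ?_⟩
    · exact h _ (Submodule.projection_apply_mem hc v)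
    · obtain ⟨p, hp, q, hq, rfl⟩ := mem_sup_top hPQ v
      obtain ⟨p', hp', q', hq', rfl⟩ := mem_sup_top hPQ w
      simp only [map_add, hnQ q hq, hnQ q' hq', add_zero, LinearMap.add_apply, hnP p hp, hnP p' hp']
      rw [hQ _ (h p hp) q' hq', hQ q hq _ (h p' hp')]
      have h1 := hQ _ (h p hp) _ (h p' hp')
      simp only [map_sub, LinearMap.sub_apply, hg p p', hP p hp p' hp'] at h1
      simp only [map_sub, LinearMap.sub_apply, hP p hp p' hp']
      linear_combination -h1
  set u : V ≃ₗ[F] V := (uni n (skew_sq hn))⁻¹ * g with hu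
  have hui : Iso B u := (skew_iso hQ hn).inv.mul hg
  have huP : ∀ v ∈ P, u v = v := by
    intro v hv
    rw [hu, LinearEquiv.mul_apply, uni_inv_apply]
    have h1 : n (g v) = g v - v := by
      have h2 : g v = v + (g v - v) := by abel
      nth_rewrite 1 [h2]
      rw [map_add, hnP v hv, hnQ _ (h v hv), add_zero]
    rw [h1]; abel
  let m : Module.End F V := (u : V →ₗ[F] V) - LinearMap.id
  have hmv : ∀ v, m v = u v - v := fun v => rfl
  have hmP : ∀ v ∈ P, m v = 0 := by
    intro v hv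
    rw [hmv, huP v hv, sub_self]
  have hmm : ∀ v, m v ∈ P := by
    intro v
    apply mem_of_orth hN hP hQ hPQ
    intro w hw
    have h1 := hui v w
    rw [huP w hw] at h1
    rw [hmv, map_sub, LinearMap.sub_apply, h1, sub_self]
  have hm : m ∈ Skew B P := by
    refine ⟨hmm, hmP, fun v w => ?_⟩
    have h1 := hP _ (hmm v) _ (hmm w)
    have h2 := hui v w
    simp only [hmv, map_sub, LinearMap.sub_apply] at h1 ⊢
    linear_combination h2 - h1
  refine ⟨n, m, hn, hm, ?_⟩
  have : uni m (skew_sq hm) = u := by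
    ext v
    rw [uni_apply, hmv]
    abel
  rw [this, hu]
  group

/-- Corners with data on `P`. -/
theorem comm_of_factor {B : LinearMap.BilinForm F V} (hB : Alt B) (hN : Nond B) {P Q : Submodule F V}
    (hP : Orth B P P) (hQ : Orth B Q Q) (hPQ : P ⊔ Q = ⊤) {x z : P ≃ₗ[F] P} {f f' : F[X]}
    (hx : Sing x f f') {c : F} (hc : c * c = 1) (hxz : ∀ v, x (z (x⁻¹ (z⁻¹ v))) = c • v)
    {g h : V ≃ₗ[F] V} (hh : Iso B h) (hgh : ∀ v, g v = c • h v)
    (hPg : ∀ v ∈ P, h v - v ∈ Q) : IsComm B g := by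
  obtain ⟨n, m, hn, hm, hnm⟩ := c1_factor hB hN hP hQ hPQ hh hPg
  obtain ⟨X, hX, hXx, hXQ⟩ := levi hB hN hP hQ hPQ x
  obtain ⟨Z, hZ, hZz, hZQ⟩ := levi hB hN hP hQ hPQ z
  have hXP : ∀ v ∈ P, X v ∈ P := fun v hv => by rw [hXx ⟨v, hv⟩]; exact (x ⟨v, hv⟩).2
  have hZP : ∀ v ∈ P, Z v ∈ P := fun v hv => by rw [hZz ⟨v, hv⟩]; exact (z ⟨v, hv⟩).2
  have hXi : ∀ v : P, X⁻¹ v = (x⁻¹ v : P) := by
    intro v
    have h1 := hXx (x⁻¹ v)
    rw [app_inv] at h1
    rw [← h1, inv_app]
  have hZi : ∀ v : P, Z⁻¹ v = (z⁻¹ v : P) := by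
    intro v
    have h1 := hZz (z⁻¹ v)
    rw [app_inv] at h1
    rw [← h1, inv_app]
  have hD : ∀ v, (X * Z * X⁻¹ * Z⁻¹) v = c • v := by
    apply levi_unique hB hN hP hQ hPQ (((hX.mul hZ).mul hX.inv).mul hZ.inv)
      (fun v hv => hXQ _ (hZQ _ (inv_mem_of_mem hXQ _ (inv_mem_of_mem hZQ _ hv)))) c hc
    intro v hv
    have h1 := hxz ⟨v, hv⟩
    change X (Z (X⁻¹ (Z⁻¹ ((⟨v, hv⟩ : P) : V)))) = _
    rw [hZi, hXi, hZz, hXx, h1]
    rfl
  have hfP : ∀ v ∈ P, aeval (X : Module.End F V) f v = 0 := by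
    intro v hv
    have h1 := aeval_restrict (X := (X : Module.End F V)) (x := (x : Module.End F P)) hXx f ⟨v, hv⟩
    rw [h1, hx.1]
    rfl
  have hfP' : ∀ v ∈ P, aeval (X : Module.End F V) f' v = 0 → v = 0 := by
    intro v hv h0
    have h1 := aeval_restrict (X := (X : Module.End F V)) (x := (x : Module.End F P)) hXx f' ⟨v, hv⟩
    rw [h0] at h1
    exact congrArg Subtype.val (hx.2.2.2 ⟨v, hv⟩ (Subtype.ext h1.symm))
  have hfQ : ∀ v ∈ Q, aeval (X : Module.End F V) f v = 0 → v = 0 := by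
    intro v hv h0
    apply eq_zero_of_orth hN hPQ _ (hQ v hv)
    intro w hw
    have hinj : Function.Injective (aeval ((x⁻¹ : P ≃ₗ[F] P) : Module.End F P) f) := by
      rw [← LinearMap.ker_eq_bot, LinearMap.ker_eq_bot']
      exact hx.2.1
    obtain ⟨w', hw'⟩ := (LinearMap.injective_iff_surjective.1 hinj) ⟨w, hw⟩
    have h1 := aeval_adj hX f (w' : V) v
    have h2 := aeval_restrict (X := ((X⁻¹ : V ≃ₗ[F] V) : Module.End F V))
      (x := ((x⁻¹ : P ≃ₗ[F] P) : Module.End F P)) hXi f w'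
    rw [h0, map_zero, h2, hw'] at h1
    exact hB.zero h1.symm
  have hfQ' : ∀ v ∈ Q, aeval (X : Module.End F V) f' v = 0 := by
    intro v hv
    apply eq_zero_of_orth hN hPQ _ (hQ _ (aeval_mem hXQ f' v hv))
    intro w hw
    have h1 := aeval_adj hX f' w v
    have h2 := aeval_restrict (X := ((X⁻¹ : V ≃ₗ[F] V) : Module.End F V))
      (x := ((x⁻¹ : P ≃ₗ[F] P) : Module.End F P)) hXi f' ⟨w, hw⟩
    simp only at h2
    rw [h2, hx.2.2.1, Submodule.coe_zero, map_zero, LinearMap.zero_apply] at h1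
    exact hB.zero h1
  apply comm_of_corner hP hQ hPQ hX hZ hXP hXQ hZP hZQ f f' hfP hfQ hfQ' hfP' hn hm
  ext v
  rw [hgh, hnm]
  have h1 : ∀ v, (uni n (skew_sq hn)) (c • v) = c • (uni n (skew_sq hn)) v := fun v => map_smul _ _ _
  simp only [LinearEquiv.mul_apply] at hD ⊢
  rw [hD, h1]

variable [Finite F]

theorem c1_comm {B : LinearMap.BilinForm F V} (hB : Alt B) (hN : Nond B) {n : ℕ}
    (hV : Module.finrank F V = 2 * n) (hn : n ≠ 0) (h : 5 ≤ Nat.card F ^ n ∨ 4 ≤ Nat.card F)
    {g : V ≃ₗ[F] V} (hg : Iso B g) (hC : C1 B g) : IsComm B g := by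
  obtain ⟨P, Q, hP, hQ, hPQ, hPg⟩ := hC
  have h2 := finrank_two hB hN hP hQ hPQ
  have h3 : Module.finrank F P = n := by omega
  obtain ⟨x, f, f', hx⟩ := sing_one (F := F) (V := P) (by omega) (by rw [h3]; exact h)
  refine comm_of_factor hB hN hP hQ hPQ (x := x) (z := 1) hx (c := 1) (by ring) (fun v => ?_) hg
    (fun v => by rw [one_smul]) hPg
  rw [one_smul, inv_one]
  exact app_inv x v

theorem c1_neg_comm {B : LinearMap.BilinForm F V} (hB : Alt B) (hN : Nond B) {j : ℕ}
    (hV : Module.finrank F V = 2 * (2 * j)) (hj : j ≠ 0) (h : 5 ≤ Nat.card F ^ j ∨ 4 ≤ Nat.card F)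
    {g h' : V ≃ₗ[F] V} (hh : Iso B h') (hgh : ∀ v, g v = - h' v) (hC : C1 B h') : IsComm B g := by
  obtain ⟨P, Q, hP, hQ, hPQ, hPg⟩ := hC
  have h2 := finrank_two hB hN hP hQ hPQ
  have h3 : Module.finrank F P = 2 * j := by omega
  obtain ⟨x, z, f, f', hx, hxz⟩ := sing_neg (F := F) (V := P) j hj h3 h
  refine comm_of_factor hB hN hP hQ hPQ (x := x) (z := z) hx (c := -1) (by ring) (fun v => ?_) hh
    (fun v => by rw [hgh, neg_one_smul]) hPg
  rw [hxz, neg_one_smul]

end FD

end Cfsg.Agent.H144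
end

-- part: H144/Cplx
section
/-!
# Complex structures in the symplectic group over a finite field of odd order

* `cplx_exists` : all isometries `J` with `J² = -1` are conjugate.
* `comm_of_inverted` : an isometry inverted by an isometry `J` with `J² = -1` is a commutator.
-/

set_option autoImplicit false
open Polynomial

universe u v

namespace Cfsg.Agent.H144

variable {F : Type u} [Field F]

theorem exists_sq_add_sq [Finite F] (h2 : (2 : F) ≠ 0) (c : F) : ∃ a b : F, a * a + b * b = c := by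
  have : Fintype F := Fintype.ofFinite F
  have hodd : Fintype.card F % 2 = 1 := by
    apply FiniteField.odd_card_of_char_ne_two
    intro h
    exact h2 (by exact_mod_cast (ringChar.spec F 2).2 (by rw [h]))
  obtain ⟨a, b, h⟩ := FiniteField.exists_root_sum_quadratic (R := F) (f := X ^ 2 - C c) (g := X ^ 2)
    (degree_X_pow_sub_C (by norm_num) _) (degree_X_pow 2) hodd
  refine ⟨a, b, ?_⟩
  simp only [eval_sub, eval_pow, eval_X, eval_C] at h
  linear_combination h

section Split

variable {V : Type v} [AddCommGroup V] [Module F V]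

theorem exists_unit [Finite F] (h2 : (2 : F) ≠ 0) {B : LinearMap.BilinForm F V} (hB : Alt B) (hN : Nond B)
    {J : V ≃ₗ[F] V} (hJ : Iso B J) (hJ2 : ∀ v, J (J v) = -v) [Nontrivial V] : ∃ v, B v (J v) = 1 := by
  obtain ⟨v, hv⟩ : ∃ v, B v (J v) ≠ 0 := by
    by_contra hcon
    push Not at hcon
    obtain ⟨v, hv⟩ := exists_ne (0 : V)
    apply hv
    apply hN
    intro w
    have h1 := hcon (v + J⁻¹ w)
    simp only [map_add, LinearMap.add_apply, app_inv, hcon v] at h1
    have h3 := hcon (J⁻¹ w)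
    rw [app_inv] at h3
    rw [h3] at h1
    have h4 : B (J⁻¹ w) (J v) = B v w := by
      have h5 := hJ (J⁻¹ w) (J v)
      rw [app_inv, hJ2, map_neg] at h5
      rw [← h5, hB.neg w v, neg_neg]
    rw [h4] at h1
    have h5 : (2 : F) * B v w = 0 := by linear_combination h1
    exact (mul_eq_zero.1 h5).resolve_left h2
  obtain ⟨a, b, hab⟩ := exists_sq_add_sq h2 (B v (J v))⁻¹
  refine ⟨a • v + b • J v, ?_⟩
  simp only [map_add, map_smul, hJ2, LinearMap.add_apply, LinearMap.smul_apply, smul_eq_mul, map_neg]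
  rw [hB v, hB (J v), hB.neg (J v) v]
  have h3 : (B v (J v))⁻¹ * B v (J v) = 1 := inv_mul_cancel₀ hv
  rw [← hab] at h3
  linear_combination h3

/-- coordinates with respect to `v`, `J v` -/
def cvec (B : LinearMap.BilinForm F V) (J : V ≃ₗ[F] V) (v : V) : V →ₗ[F] F × F :=
  (B.flip (J v)).prod (B v)

theorem cvec_apply (B : LinearMap.BilinForm F V) (J : V ≃ₗ[F] V) (v w : V) :
    cvec B J v w = (B w (J v), B v w) := rfl

theorem finrank_ker [FiniteDimensional F V] {B : LinearMap.BilinForm F V} (hB : Alt B) {J : V ≃ₗ[F] V}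
    {v : V} (hv : B v (J v) = 1) :
    Module.finrank F V = 2 + Module.finrank F (LinearMap.ker (cvec B J v)) := by
  have h1 := LinearMap.finrank_range_add_finrank_ker (cvec B J v)
  have h2 : LinearMap.range (cvec B J v) = ⊤ := by
    rw [LinearMap.range_eq_top]
    rintro ⟨a, b⟩
    refine ⟨a • v + b • J v, ?_⟩
    rw [cvec_apply]
    simp only [map_add, map_smul, LinearMap.add_apply, LinearMap.smul_apply, smul_eq_mul, hv, hB v, hB (J v)]
    simp
  rw [h2, finrank_top, Module.finrank_prod, Module.finrank_self] at h1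
  omega

end Split

theorem cplx_exists [Finite F] (h2 : (2 : F) ≠ 0) (n : ℕ) :
    ∀ (V₁ V₂ : Type v) [AddCommGroup V₁] [Module F V₁] [FiniteDimensional F V₁]
      [AddCommGroup V₂] [Module F V₂] [FiniteDimensional F V₂]
      (B₁ : LinearMap.BilinForm F V₁) (B₂ : LinearMap.BilinForm F V₂) (J₁ : V₁ ≃ₗ[F] V₁) (J₂ : V₂ ≃ₗ[F] V₂),
      Alt B₁ → Nond B₁ → Alt B₂ → Nond B₂ → Iso B₁ J₁ → Iso B₂ J₂ → (∀ v, J₁ (J₁ v) = -v) →
      (∀ v, J₂ (J₂ v) = -v) → Module.finrank F V₁ = n → Module.finrank F V₂ = n →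
      ∃ Z : V₁ ≃ₗ[F] V₂, (∀ x y, B₂ (Z x) (Z y) = B₁ x y) ∧ ∀ x, Z (J₁ x) = J₂ (Z x) := by
  induction n using Nat.strong_induction_on with
  | _ n ih =>
  intro V₁ V₂ _ _ _ _ _ _ B₁ B₂ J₁ J₂ hA₁ hN₁ hA₂ hN₂ hI₁ hI₂ hJ₁ hJ₂ hd₁ hd₂
  rcases Nat.eq_zero_or_pos n with rfl | hn
  · have h1 : Subsingleton V₁ := Module.finrank_zero_iff.1 hd₁
    have h2 : Subsingleton V₂ := Module.finrank_zero_iff.1 hd₂
    refine ⟨LinearEquiv.ofFinrankEq V₁ V₂ (by rw [hd₁, hd₂]), fun x y => ?_, fun x => Subsingleton.elim _ _⟩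
    rw [Subsingleton.elim x 0]
    simp
  · have : Nontrivial V₁ := (Module.finrank_pos_iff (R := F)).1 (by omega)
    have : Nontrivial V₂ := (Module.finrank_pos_iff (R := F)).1 (by omega)
    obtain ⟨v₁, hv₁⟩ := exists_unit h2 hA₁ hN₁ hI₁ hJ₁
    obtain ⟨v₂, hv₂⟩ := exists_unit h2 hA₂ hN₂ hI₂ hJ₂
    have hf₁ := finrank_ker hA₁ hv₁
    have hf₂ := finrank_ker hA₂ hv₂
    have key : ∀ (V : Type v) [AddCommGroup V] [Module F V] [FiniteDimensional F V]
        (B : LinearMap.BilinForm F V) (J : V ≃ₗ[F] V), Alt B → Nond B → Iso B J → (∀ v, J (J v) = -v) →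
        ∀ v, B v (J v) = 1 →
        ∃ (J' : LinearMap.ker (cvec B J v) ≃ₗ[F] LinearMap.ker (cvec B J v))
          (π : V →ₗ[F] LinearMap.ker (cvec B J v)),
          (∀ x, (J' x : V) = J x) ∧ Alt (B.restrict (LinearMap.ker (cvec B J v))) ∧
          Nond (B.restrict (LinearMap.ker (cvec B J v))) ∧
          (∀ w, w = (B w (J v)) • v + (B v w) • J v + (π w : V)) ∧
          (∀ w, π (J w) = J' (π w)) := by
      intro V _ _ _ B J hA hN hI hJ v hv
      have hmem : ∀ w, w ∈ LinearMap.ker (cvec B J v) ↔ B w (J v) = 0 ∧ B v w = 0 := by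
        intro w
        rw [LinearMap.mem_ker, cvec_apply, Prod.mk_eq_zero]
      have hJmem : ∀ w ∈ LinearMap.ker (cvec B J v), J w ∈ LinearMap.ker (cvec B J v) := by
        intro w hw
        rw [hmem] at hw ⊢
        refine ⟨?_, ?_⟩
        · rw [hI, hA.zero hw.2]
        · have h3 := hI (J v) w
          rw [hJ] at h3
          have h4 : B v (J w) = - B (J v) w := by rw [← h3, map_neg, LinearMap.neg_apply, neg_neg]
          rw [h4, hA.zero hw.1, neg_zero]
      have hJinv : ∀ w, J⁻¹ w = - J w := by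
        intro w
        have h3 : J (-J w) = w := by rw [map_neg, hJ, neg_neg]
        nth_rewrite 1 [← h3]
        rw [inv_app]
      let J' : LinearMap.ker (cvec B J v) ≃ₗ[F] LinearMap.ker (cvec B J v) :=
        LinearEquiv.ofLinearMap ((J : V →ₗ[F] V).restrict hJmem) (-((J : V →ₗ[F] V).restrict hJmem))
          (by
            ext x
            change J (-(J (x : V))) = x
            rw [map_neg, hJ, neg_neg])
          (by
            ext x
            change -(J (J (x : V))) = x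
            rw [hJ, neg_neg])
      have hJ' : ∀ x, (J' x : V) = J x := fun x => rfl
      have hπ : ∀ w, w - (B w (J v)) • v - (B v w) • J v ∈ LinearMap.ker (cvec B J v) := by
        intro w
        rw [hmem]
        simp only [map_sub, map_smul, LinearMap.sub_apply, LinearMap.smul_apply, smul_eq_mul, hv, hA v, hA (J v)]
        exact ⟨by ring, by ring⟩
      let π₀ : V →ₗ[F] V := LinearMap.id - (B.flip (J v)).smulRight v - (B v).smulRight (J v)
      let π : V →ₗ[F] LinearMap.ker (cvec B J v) := π₀.codRestrict _ hπ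
      have hπv : ∀ w, (π w : V) = w - (B w (J v)) • v - (B v w) • J v := fun w => rfl
      refine ⟨J', π, hJ', fun x => hA _, fun x hx => ?_, fun w => ?_, fun w => ?_⟩
      · apply Subtype.ext
        apply hN
        intro w
        have h3 := hx (π w)
        have h4 : B (x : V) (π w : V) = 0 := h3
        rw [hπv] at h4
        have h5 := (hmem x).1 x.2
        simp only [map_sub, map_smul, smul_eq_mul, h5.1, hA.zero h5.2] at h4
        simpa using h4
      · rw [hπv]; abel
      · apply Subtype.ext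
        rw [hJ', hπv, hπv]
        simp only [map_sub, map_smul, hJ]
        rw [hI]
        have h3 := hI (J v) w
        rw [hJ] at h3
        have h4 : B v (J w) = - B (J v) w := by rw [← h3, map_neg, LinearMap.neg_apply, neg_neg]
        rw [h4, hA.neg (J v) w, neg_neg, hA.neg w v]
        module
    obtain ⟨J₁', π₁, hJ₁', hA₁', hN₁', hπ₁, hπJ₁⟩ := key V₁ B₁ J₁ hA₁ hN₁ hI₁ hJ₁ v₁ hv₁
    obtain ⟨J₂', π₂, hJ₂', hA₂', hN₂', hπ₂, hπJ₂⟩ := key V₂ B₂ J₂ hA₂ hN₂ hI₂ hJ₂ v₂ hv₂
    obtain ⟨Z, hZ, hZJ⟩ := ih (Module.finrank F (LinearMap.ker (cvec B₁ J₁ v₁))) (by omega)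
      (LinearMap.ker (cvec B₁ J₁ v₁)) (LinearMap.ker (cvec B₂ J₂ v₂)) (B₁.restrict _) (B₂.restrict _) J₁' J₂'
      hA₁' hN₁' hA₂' hN₂' (fun x y => by
        change B₁ (J₁' x : V₁) (J₁' y : V₁) = B₁ x y
        rw [hJ₁', hJ₁', hI₁]) (fun x y => by
        change B₂ (J₂' x : V₂) (J₂' y : V₂) = B₂ x y
        rw [hJ₂', hJ₂', hI₂]) (fun x => Subtype.ext (by rw [hJ₁', hJ₁', hJ₁]; rfl))
      (fun x => Subtype.ext (by rw [hJ₂', hJ₂', hJ₂]; rfl)) rfl (by omega)
    let T : V₁ →ₗ[F] V₂ := (B₁.flip (J₁ v₁)).smulRight v₂ + (B₁ v₁).smulRight (J₂ v₂) +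
      (LinearMap.ker (cvec B₂ J₂ v₂)).subtype ∘ₗ (Z : _ →ₗ[F] _) ∘ₗ π₁
    have hT : ∀ w, T w = (B₁ w (J₁ v₁)) • v₂ + (B₁ v₁ w) • J₂ v₂ + (Z (π₁ w) : V₂) := fun w => rfl
    have hTB : ∀ x y, B₂ (T x) (T y) = B₁ x y := by
      intro x y
      have hm₁ : ∀ w : LinearMap.ker (cvec B₁ J₁ v₁), B₁ (w : V₁) (J₁ v₁) = 0 ∧ B₁ v₁ w = 0 := by
        intro w
        have := w.2
        rwa [LinearMap.mem_ker, cvec_apply, Prod.mk_eq_zero] at this
      have hm₂ : ∀ w : LinearMap.ker (cvec B₂ J₂ v₂), B₂ (w : V₂) (J₂ v₂) = 0 ∧ B₂ v₂ w = 0 := by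
        intro w
        have := w.2
        rwa [LinearMap.mem_ker, cvec_apply, Prod.mk_eq_zero] at this
      have e0 : ∀ (a b c d : F) (p q : LinearMap.ker (cvec B₁ J₁ v₁)),
          B₁ (a • v₁ + b • J₁ v₁ + (p : V₁)) (c • v₁ + d • J₁ v₁ + (q : V₁)) =
            a * d - b * c + B₁ (p : V₁) (q : V₁) := by
        intro a b c d p q
        simp only [map_add, map_smul, LinearMap.add_apply, LinearMap.smul_apply, smul_eq_mul, hv₁, hA₁ v₁,
          hA₁ (J₁ v₁), (hm₁ _).1, (hm₁ _).2, hA₁.zero (hm₁ _).1, hA₁.zero (hm₁ _).2, hA₁.neg (J₁ v₁) v₁]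
        ring
      have e1 : B₁ x y = (B₁ x (J₁ v₁)) * (B₁ v₁ y) - (B₁ v₁ x) * (B₁ y (J₁ v₁)) +
          B₁ (π₁ x : V₁) (π₁ y) := by
        conv_lhs => rw [hπ₁ x, hπ₁ y]
        rw [e0]
      rw [e1, hT, hT]
      have e2 := hZ (π₁ x) (π₁ y)
      have e3 : B₂ (Z (π₁ x) : V₂) (Z (π₁ y) : V₂) = B₁ (π₁ x : V₁) (π₁ y) := e2
      rw [← e3]
      simp only [map_add, map_smul, LinearMap.add_apply, LinearMap.smul_apply, smul_eq_mul, hv₂, hA₂ v₂,
          hA₂ (J₂ v₂), (hm₂ _).1, (hm₂ _).2, hA₂.zero (hm₂ _).1, hA₂.zero (hm₂ _).2, hA₂.neg (J₂ v₂) v₂]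
      ring
    have hinj : Function.Injective T := by
      rw [← LinearMap.ker_eq_bot, LinearMap.ker_eq_bot']
      intro w hw
      apply hN₁
      intro x
      rw [← hTB, hw, map_zero, LinearMap.zero_apply]
    refine ⟨LinearEquiv.ofInjectiveOfFinrankEq T hinj (by rw [hd₁, hd₂]), hTB, fun x => ?_⟩
    change T (J₁ x) = J₂ (T x)
    rw [hT, hT]
    simp only [map_add, map_smul, hJ₂]
    rw [hπJ₁, hZJ, hJ₂', hI₁]
    have h3 := hI₁ (J₁ v₁) x
    rw [hJ₁] at h3
    have h4 : B₁ v₁ (J₁ x) = - B₁ (J₁ v₁) x := by rw [← h3, map_neg, LinearMap.neg_apply, neg_neg]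
    rw [h4, hA₁.neg (J₁ v₁) x, neg_neg, hA₁.neg x v₁]
    module

theorem comm_of_inverted [Finite F] (h2 : (2 : F) ≠ 0) {V : Type v} [AddCommGroup V] [Module F V]
    [FiniteDimensional F V] {B : LinearMap.BilinForm F V} (hB : Alt B) (hN : Nond B)
    {g J : V ≃ₗ[F] V} (hg : Iso B g) (hJ : Iso B J) (hJ2 : ∀ v, J (J v) = -v)
    (hgJ : ∀ v, g (J (g v)) = J v) : IsComm B g := by
  obtain ⟨Z, hZ, hZJ⟩ := cplx_exists h2 (Module.finrank F V) V V B B J (g * J) hB hN hB hN hJ (hg.mul hJ) hJ2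
    (fun v => by
      change g (J (g (J v))) = -v
      rw [hgJ, hJ2]) rfl rfl
  refine ⟨Z, J, hZ, hJ, ?_⟩
  have h1 : Z * J = g * J * Z := by
    ext v
    exact hZJ v
  rw [h1]
  group

end Cfsg.Agent.H144
end

-- part: H144/Struct
section
/-!
# Isotropic `F[g + g⁻¹]`-submodules

`c = cc g = g + g⁻¹`, `K c v = F[c] v`.
* `c1_of_cyclic`, `c1_of_two`, `c1_of_odd` : three situations in which `C1On B g P` holds.
-/

set_option autoImplicit false
open Polynomial

noncomputable section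

namespace Cfsg.Agent.H144

variable {F V : Type*} [Field F] [AddCommGroup V] [Module F V]

/-- `F[c] v` -/
def K (c : Module.End F V) (v : V) : Submodule F V :=
  LinearMap.range ((LinearMap.applyₗ v : Module.End F V →ₗ[F] V) ∘ₗ
    (aeval c : F[X] →ₐ[F] Module.End F V).toLinearMap)

theorem mem_K {c : Module.End F V} {v w : V} : w ∈ K c v ↔ ∃ f : F[X], aeval c f v = w := Iff.rfl

theorem self_mem_K (c : Module.End F V) (v : V) : v ∈ K c v := mem_K.2 ⟨1, by simp⟩

theorem aeval_mul_app (c : Module.End F V) (f h : F[X]) (v : V) :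
    aeval c (f * h) v = aeval c f (aeval c h v) := by
  rw [map_mul, Module.End.mul_apply]

theorem aeval_comm_app (c : Module.End F V) (f h : F[X]) (v : V) :
    aeval c f (aeval c h v) = aeval c h (aeval c f v) := by
  rw [← aeval_mul_app, mul_comm, aeval_mul_app]

theorem K_app_mem {c : Module.End F V} {v w : V} (h : w ∈ K c v) (f : F[X]) : aeval c f w ∈ K c v := by
  obtain ⟨h, rfl⟩ := h
  exact ⟨f * h, aeval_mul_app c f h v⟩

theorem K_inv {c : Module.End F V} {v w : V} (h : w ∈ K c v) : c w ∈ K c v := by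
  have := K_app_mem h X
  rwa [aeval_X] at this

theorem K_le {c : Module.End F V} {v : V} {P : Submodule F V} (hP : ∀ w ∈ P, c w ∈ P) (hv : v ∈ P) :
    K c v ≤ P := by
  rintro _ ⟨f, rfl⟩
  exact aeval_mem hP f v hv

/-- `g + g⁻¹` -/
def cc (g : V ≃ₗ[F] V) : Module.End F V := (g : V →ₗ[F] V) + ((g⁻¹ : V ≃ₗ[F] V) : V →ₗ[F] V)

theorem cc_apply (g : V ≃ₗ[F] V) (v : V) : cc g v = g v + g⁻¹ v := rfl

theorem cc_adj {B : LinearMap.BilinForm F V} {g : V ≃ₗ[F] V} (hg : Iso B g) (v w : V) :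
    B (cc g v) w = B v (cc g w) := by
  rw [cc_apply, cc_apply, map_add, LinearMap.add_apply, map_add, hg.adj, hg.inv.adj, inv_inv, add_comm]

theorem adj_aeval {B : LinearMap.BilinForm F V} {c : Module.End F V} (hc : ∀ v w, B (c v) w = B v (c w))
    (f : F[X]) (v w : V) : B (aeval c f v) w = B v (aeval c f w) := by
  induction f using Polynomial.induction_on' generalizing v w with
  | add p q hp hq => simp only [map_add, LinearMap.add_apply, hp, hq]
  | monomial k a =>
    have hk : ∀ k : ℕ, ∀ v w, B ((c ^ k) v) w = B v ((c ^ k) w) := by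
      intro k
      induction k with
      | zero => intro v w; simp
      | succ k ih =>
        intro v w
        rw [pow_succ, Module.End.mul_apply, ih, hc, ← Module.End.mul_apply, ← pow_succ']
        rw [pow_succ, Module.End.mul_apply]
    simp only [aeval_monomial, Module.algebraMap_end_eq_smul_id, Module.End.mul_apply, LinearMap.smul_apply,
      LinearMap.id_apply, hk, map_smul]

theorem comm_aeval {c : Module.End F V} {g : V →ₗ[F] V} (h : ∀ v, g (c v) = c (g v)) (f : F[X]) (v : V) :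
    g (aeval c f v) = aeval c f (g v) := by
  induction f using Polynomial.induction_on' generalizing v with
  | add p q hp hq => simp only [map_add, LinearMap.add_apply, hp, hq]
  | monomial k a =>
    have hk : ∀ k : ℕ, ∀ v, g ((c ^ k) v) = (c ^ k) (g v) := by
      intro k
      induction k with
      | zero => intro v; simp
      | succ k ih =>
        intro v
        rw [pow_succ, Module.End.mul_apply, ih, h, Module.End.mul_apply]
    simp only [aeval_monomial, Module.algebraMap_end_eq_smul_id, Module.End.mul_apply, LinearMap.smul_apply,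
      LinearMap.id_apply, hk, map_smul]

theorem cc_comm (g : V ≃ₗ[F] V) (v : V) : g (cc g v) = cc g (g v) := by
  rw [cc_apply, cc_apply, map_add, app_inv, inv_app]

theorem cc_comm_inv (g : V ≃ₗ[F] V) (v : V) : g⁻¹ (cc g v) = cc g (g⁻¹ v) := by
  rw [cc_apply, cc_apply, map_add, app_inv, inv_app]

theorem g_aeval (g : V ≃ₗ[F] V) (f : F[X]) (v : V) : g (aeval (cc g) f v) = aeval (cc g) f (g v) :=
  comm_aeval (g := (g : V →ₗ[F] V)) (cc_comm g) f v

theorem ginv_aeval (g : V ≃ₗ[F] V) (f : F[X]) (v : V) : g⁻¹ (aeval (cc g) f v) = aeval (cc g) f (g⁻¹ v) :=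
  comm_aeval (g := ((g⁻¹ : V ≃ₗ[F] V) : V →ₗ[F] V)) (cc_comm_inv g) f v

theorem g_sq (g : V ≃ₗ[F] V) (v : V) : g (g v) = cc g (g v) - v := by
  rw [cc_apply, inv_app]; abel

section Form

variable {B : LinearMap.BilinForm F V} {g : V ≃ₗ[F] V}

theorem cc_alt (hB : Alt B) (hg : Iso B g) (v : V) : B v (cc g v) = 0 := by
  rw [cc_apply, map_add, ← hg.adj, hB.neg (g v) v]
  ring

theorem self_aeval (hB : Alt B) (hg : Iso B g) (f : F[X]) (v : V) : B v (aeval (cc g) f v) = 0 := by
  have hk : ∀ k : ℕ, B v ((cc g ^ k) v) = 0 := by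
    intro k
    have h1 : ∀ (i : ℕ) (x y : V), B ((cc g ^ i) x) y = B x ((cc g ^ i) y) := by
      intro i x y
      have := adj_aeval (cc_adj hg) (X ^ i) x y
      simpa using this
    rcases Nat.even_or_odd' k with ⟨i, rfl | rfl⟩
    · rw [two_mul, pow_add, Module.End.mul_apply, ← h1]
      exact hB _
    · rw [show 2 * i + 1 = i + (1 + i) by ring, pow_add, Module.End.mul_apply, ← h1, pow_add, pow_one,
        Module.End.mul_apply]
      exact cc_alt hB hg _
  induction f using Polynomial.induction_on' with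
  | add p q hp hq => simp only [map_add, LinearMap.add_apply, hp, hq, add_zero]
  | monomial k a =>
    simp only [aeval_monomial, Module.algebraMap_end_eq_smul_id, Module.End.mul_apply, LinearMap.smul_apply,
      LinearMap.id_apply, hk, map_smul, smul_zero]

theorem K_orth_of (hg : Iso B g) {x y : V} (h : ∀ f : F[X], B x (aeval (cc g) f y) = 0) :
    Orth B (K (cc g) x) (K (cc g) y) := by
  rintro _ ⟨f, rfl⟩ _ ⟨h', rfl⟩
  change B (aeval (cc g) f x) (aeval (cc g) h' y) = 0
  rw [adj_aeval (cc_adj hg), ← aeval_mul_app, h]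

theorem K_isotropic (hB : Alt B) (hg : Iso B g) (v : V) : Orth B (K (cc g) v) (K (cc g) v) :=
  K_orth_of hg (fun f => self_aeval hB hg f v)

theorem orth_sup {P Q R : Submodule F V} (h1 : Orth B P R) (h2 : Orth B Q R) : Orth B (P ⊔ Q) R := by
  intro x hx y hy
  obtain ⟨p, hp, q, hq, rfl⟩ := Submodule.mem_sup.1 hx
  rw [map_add, LinearMap.add_apply, h1 p hp y hy, h2 q hq y hy, add_zero]

theorem orth_sup' {P Q R : Submodule F V} (h1 : Orth B R P) (h2 : Orth B R Q) : Orth B R (P ⊔ Q) := by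
  intro x hx y hy
  obtain ⟨p, hp, q, hq, rfl⟩ := Submodule.mem_sup.1 hy
  rw [map_add, h1 x hx p hp, h2 x hx q hq, add_zero]

theorem isotropic_sup (hB : Alt B) {P Q : Submodule F V} (h1 : Orth B P P) (h2 : Orth B Q Q)
    (h3 : Orth B P Q) : Orth B (P ⊔ Q) (P ⊔ Q) :=
  orth_sup (orth_sup' h1 h3) (orth_sup' (h3.symm hB) h2)

/-- `C1` on a subspace -/
def C1On (B : LinearMap.BilinForm F V) (g : V ≃ₗ[F] V) (R : Submodule F V) : Prop :=
  ∃ P Q : Submodule F V, Orth B P P ∧ Orth B Q Q ∧ P ⊔ Q = R ∧ ∀ v ∈ P, g v - v ∈ Q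

/-- `F[g] v` -/
def M (g : V ≃ₗ[F] V) (v : V) : Submodule F V := K (cc g) v ⊔ K (cc g) (g v)

theorem self_mem_M (g : V ≃ₗ[F] V) (v : V) : v ∈ M g v := Submodule.mem_sup_left (self_mem_K _ _)

theorem M_inv {w v : V} (h : w ∈ M g v) : g w ∈ M g v := by
  obtain ⟨_, ⟨f, rfl⟩, _, ⟨f', rfl⟩, rfl⟩ := Submodule.mem_sup.1 h
  change g (aeval (cc g) f v + aeval (cc g) f' (g v)) ∈ _
  rw [map_add, g_aeval, g_aeval, g_sq, map_sub]
  refine (M g v).add_mem (Submodule.mem_sup_right ⟨f, rfl⟩) ((M g v).sub_mem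
    (Submodule.mem_sup_right ?_) (Submodule.mem_sup_left ⟨f', rfl⟩))
  have : aeval (cc g) f' (cc g (g v)) = aeval (cc g) (f' * X) (g v) := by
    rw [aeval_mul_app, aeval_X]
  rw [this]
  exact ⟨_, rfl⟩

theorem M_inv' {w v : V} (h : w ∈ M g v) : g⁻¹ w ∈ M g v := by
  obtain ⟨_, ⟨f, rfl⟩, _, ⟨f', rfl⟩, rfl⟩ := Submodule.mem_sup.1 h
  change g⁻¹ (aeval (cc g) f v + aeval (cc g) f' (g v)) ∈ _
  have h1 : g⁻¹ v = cc g v - g v := by rw [cc_apply]; abel
  rw [map_add, ginv_aeval, ginv_aeval, inv_app, h1, map_sub]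
  refine (M g v).add_mem ((M g v).sub_mem (Submodule.mem_sup_left ?_) (Submodule.mem_sup_right ⟨f, rfl⟩))
    (Submodule.mem_sup_left ⟨f', rfl⟩)
  have : aeval (cc g) f (cc g v) = aeval (cc g) (f * X) v := by
    rw [aeval_mul_app, aeval_X]
  rw [this]
  exact ⟨_, rfl⟩

theorem M_le {v : V} {P : Submodule F V} (h : ∀ w ∈ P, g w ∈ P) (h' : ∀ w ∈ P, g⁻¹ w ∈ P) (hv : v ∈ P) :
    M g v ≤ P := by
  have hc : ∀ w ∈ P, cc g w ∈ P := fun w hw => by
    rw [cc_apply]; exact P.add_mem (h w hw) (h' w hw)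
  exact sup_le (K_le hc hv) (K_le hc (h v hv))

theorem c1_of_cyclic (hB : Alt B) (hg : Iso B g) (v : V) : C1On B g (M g v) := by
  refine ⟨K (cc g) v, K (cc g) (g v - v), K_isotropic hB hg v, K_isotropic hB hg _, ?_, ?_⟩
  · apply le_antisymm
    · apply sup_le le_sup_left
      apply K_le
      · intro w hw
        obtain ⟨_, ⟨f, rfl⟩, _, ⟨f', rfl⟩, rfl⟩ := Submodule.mem_sup.1 hw
        rw [map_add]
        exact Submodule.add_mem _ (Submodule.mem_sup_left (K_inv ⟨f, rfl⟩))
          (Submodule.mem_sup_right (K_inv ⟨f', rfl⟩))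
      · exact (M g v).sub_mem (Submodule.mem_sup_right (self_mem_K _ _)) (self_mem_M g v)
    · apply sup_le le_sup_left
      rintro _ ⟨f, rfl⟩
      change aeval (cc g) f (g v) ∈ _
      have : aeval (cc g) f (g v) = aeval (cc g) f v + aeval (cc g) f (g v - v) := by
        rw [map_sub]; abel
      rw [this]
      exact Submodule.add_mem _ (Submodule.mem_sup_left ⟨f, rfl⟩) (Submodule.mem_sup_right ⟨f, rfl⟩)
  · rintro _ ⟨f, rfl⟩
    change g (aeval (cc g) f v) - aeval (cc g) f v ∈ _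
    rw [g_aeval, ← map_sub]
    exact ⟨f, rfl⟩

theorem K_add_mem {c : Module.End F V} {P : Submodule F V} {u v w : V} (hu : K c u ≤ P) (hv : K c v ≤ P)
    (h : w = u + v) : K c w ≤ P := by
  rintro _ ⟨f, rfl⟩
  change aeval c f w ∈ P
  rw [h, map_add]
  exact P.add_mem (hu ⟨f, rfl⟩) (hv ⟨f, rfl⟩)

theorem K_neg_mem {c : Module.End F V} {P : Submodule F V} {u w : V} (hu : K c u ≤ P)
    (h : w = -u) : K c w ≤ P := by
  rintro _ ⟨f, rfl⟩
  change aeval c f w ∈ P
  rw [h, map_neg]
  exact P.neg_mem (hu ⟨f, rfl⟩)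

theorem K_app_le {c : Module.End F V} {P : Submodule F V} {u : V} (hu : K c u ≤ P) (f : F[X]) :
    K c (aeval c f u) ≤ P := by
  rintro _ ⟨h, rfl⟩
  change aeval c h (aeval c f u) ∈ P
  rw [← aeval_mul_app]
  exact hu ⟨_, rfl⟩

theorem sub_form (hg : Iso B g) (u y : V) : B (g u - u) (g y - y) = 2 * B u y - B u (cc g y) := by
  rw [cc_apply]
  simp only [map_sub, LinearMap.sub_apply, map_add]
  rw [hg, hg.adj u y]
  ring

theorem c1_of_two (hB : Alt B) (hg : Iso B g) {x y : V} (h : ∀ f : F[X], B x (aeval (cc g) f y) = 0) :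
    C1On B g (M g x ⊔ M g y) := by
  refine ⟨K (cc g) x ⊔ K (cc g) y, K (cc g) (g x - x) ⊔ K (cc g) (g y - y), ?_, ?_, ?_, ?_⟩
  · exact isotropic_sup hB (K_isotropic hB hg _) (K_isotropic hB hg _) (K_orth_of hg h)
  · refine isotropic_sup hB (K_isotropic hB hg _) (K_isotropic hB hg _) (K_orth_of hg fun f => ?_)
    rw [map_sub (aeval (cc g) f), ← g_aeval, sub_form hg, h]
    have : cc g (aeval (cc g) f y) = aeval (cc g) (X * f) y := by rw [aeval_mul_app, aeval_X]
    rw [this, h]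
    ring
  · apply le_antisymm
    · refine sup_le (sup_le ?_ ?_) (sup_le ?_ ?_)
      · exact le_sup_of_le_left le_sup_left
      · exact le_sup_of_le_right le_sup_left
      · refine K_add_mem (u := g x) (v := -x) ?_ (K_neg_mem (u := x) ?_ rfl) (by abel)
        · exact le_sup_of_le_left le_sup_right
        · exact le_sup_of_le_left le_sup_left
      · refine K_add_mem (u := g y) (v := -y) ?_ (K_neg_mem (u := y) ?_ rfl) (by abel)
        · exact le_sup_of_le_right le_sup_right
        · exact le_sup_of_le_right le_sup_left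
    · refine sup_le (sup_le ?_ ?_) (sup_le ?_ ?_)
      · exact le_sup_of_le_left le_sup_left
      · refine K_add_mem (u := g x - x) (v := x) ?_ ?_ (by abel)
        · exact le_sup_of_le_right le_sup_left
        · exact le_sup_of_le_left le_sup_left
      · exact le_sup_of_le_left le_sup_right
      · refine K_add_mem (u := g y - y) (v := y) ?_ ?_ (by abel)
        · exact le_sup_of_le_right le_sup_right
        · exact le_sup_of_le_left le_sup_right
  · intro v hv
    obtain ⟨_, ⟨f, rfl⟩, _, ⟨f', rfl⟩, rfl⟩ := Submodule.mem_sup.1 hv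
    change g (aeval (cc g) f x + aeval (cc g) f' y) - (aeval (cc g) f x + aeval (cc g) f' y) ∈ _
    have : g (aeval (cc g) f x + aeval (cc g) f' y) - (aeval (cc g) f x + aeval (cc g) f' y) =
        aeval (cc g) f (g x - x) + aeval (cc g) f' (g y - y) := by
      rw [map_add, g_aeval, g_aeval, map_sub, map_sub]; abel
    rw [this]
    exact Submodule.add_mem _ (Submodule.mem_sup_left ⟨f, rfl⟩) (Submodule.mem_sup_right ⟨f', rfl⟩)

theorem c1_of_odd (hB : Alt B) (hg : Iso B g) {x y : V}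
    (h : ∀ f : F[X], B (x - g⁻¹ x) (aeval (cc g) f y) = 0) :
    C1On B g (M g x ⊔ M g y) := by
  have h1 : ∀ f : F[X], B x (aeval (cc g) f (g y - y)) = 0 := by
    intro f
    have h2 := h f
    rw [map_sub, LinearMap.sub_apply, hg.inv.adj, inv_inv, g_aeval] at h2
    rw [map_sub, map_sub]
    linear_combination -h2
  have h1' : ∀ f : F[X], B (g x - x) (aeval (cc g) f (g y)) = 0 := by
    intro f
    have h2 := h f
    rw [← hg] at h2
    rwa [map_sub, app_inv, g_aeval] at h2
  refine ⟨K (cc g) x ⊔ K (cc g) (g y - y), K (cc g) (g x - x) ⊔ K (cc g) (g y), ?_, ?_, ?_, ?_⟩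
  · exact isotropic_sup hB (K_isotropic hB hg _) (K_isotropic hB hg _) (K_orth_of hg h1)
  · exact isotropic_sup hB (K_isotropic hB hg _) (K_isotropic hB hg _) (K_orth_of hg h1')
  · apply le_antisymm
    · refine sup_le (sup_le ?_ ?_) (sup_le ?_ ?_)
      · exact le_sup_of_le_left le_sup_left
      · refine K_add_mem (u := g y) (v := -y) ?_ (K_neg_mem (u := y) ?_ rfl) (by abel)
        · exact le_sup_of_le_right le_sup_right
        · exact le_sup_of_le_right le_sup_left
      · refine K_add_mem (u := g x) (v := -x) ?_ (K_neg_mem (u := x) ?_ rfl) (by abel)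
        · exact le_sup_of_le_left le_sup_right
        · exact le_sup_of_le_left le_sup_left
      · exact le_sup_of_le_right le_sup_right
    · refine sup_le (sup_le ?_ ?_) (sup_le ?_ ?_)
      · exact le_sup_of_le_left le_sup_left
      · refine K_add_mem (u := g x - x) (v := x) ?_ ?_ (by abel)
        · exact le_sup_of_le_right le_sup_left
        · exact le_sup_of_le_left le_sup_left
      · refine K_add_mem (u := g y) (v := -(g y - y)) ?_ (K_neg_mem (u := g y - y) ?_ rfl) (by abel)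
        · exact le_sup_of_le_right le_sup_right
        · exact le_sup_of_le_left le_sup_right
      · exact le_sup_of_le_right le_sup_right
  · intro v hv
    obtain ⟨_, ⟨f, rfl⟩, _, ⟨f', rfl⟩, rfl⟩ := Submodule.mem_sup.1 hv
    change g (aeval (cc g) f x + aeval (cc g) f' (g y - y)) -
      (aeval (cc g) f x + aeval (cc g) f' (g y - y)) ∈ _
    have : g (aeval (cc g) f x + aeval (cc g) f' (g y - y)) -
        (aeval (cc g) f x + aeval (cc g) f' (g y - y)) =
        aeval (cc g) f (g x - x) + aeval (cc g) (f' * (X - C 2)) (g y) := by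
      rw [map_add, g_aeval, g_aeval, map_sub, aeval_mul_app, g_sq]
      simp only [map_sub, aeval_X, aeval_C, LinearMap.sub_apply, Module.algebraMap_end_apply, map_smul]
      module
    rw [this]
    exact Submodule.add_mem _ (Submodule.mem_sup_left ⟨f, rfl⟩) (Submodule.mem_sup_right ⟨_, rfl⟩)

end Form

end Cfsg.Agent.H144
end
end

-- part: H144/Unip
section
/-!
# Nondegenerate invariant subspaces with one or two generators
-/

set_option autoImplicit false
open Polynomial

noncomputable section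

namespace Cfsg.Agent.H144

variable {F V : Type*} [Field F] [AddCommGroup V] [Module F V]

/-- nondegenerate subspace -/
def Nd (B : LinearMap.BilinForm F V) (P : Submodule F V) : Prop :=
  ∀ v ∈ P, (∀ w ∈ P, B v w = 0) → v = 0

theorem nd_cyclic {B : LinearMap.BilinForm F V} {g : V ≃ₗ[F] V} (hB : Alt B) (hg : Iso B g) {π : F[X]}
    (hπ : Irreducible π) {e : ℕ} (he : aeval (cc g) (π ^ (e + 1)) = 0) {v : V} {f : F[X]}
    (h : B v (g (aeval (cc g) (π ^ e * f) v)) ≠ 0) : Nd B (M g v) := by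
  let I : Ideal F[X] :=
    { carrier := {p | ∀ q : F[X], B v (g (aeval (cc g) (p * q) v)) = 0}
      zero_mem' := fun q => by simp
      add_mem' := fun {a b} ha hb q => by
        rw [add_mul, map_add, LinearMap.add_apply, map_add, map_add, ha q, hb q, add_zero]
      smul_mem' := fun c p hp q => by
        rw [smul_eq_mul, show c * p * q = p * (c * q) by ring]
        exact hp (c * q) }
  have hI : ∀ p ∈ I, aeval (cc g) p = 0 := by
    obtain ⟨d, hd⟩ := (IsPrincipalIdealRing.principal I).principal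
    have hπI : π ^ (e + 1) ∈ I := fun q => by
      rw [map_mul, he, zero_mul, LinearMap.zero_apply, map_zero, map_zero]
    rw [hd] at hπI
    change π ^ (e + 1) ∈ Ideal.span {d} at hπI
    rw [Ideal.mem_span_singleton] at hπI
    obtain ⟨i, hi, hid⟩ := (dvd_prime_pow hπ.prime _).1 hπI
    rcases Nat.lt_or_ge i (e + 1) with hlt | hge
    · exfalso
      apply h
      have h1 : π ^ e ∈ I := by
        rw [hd]
        change π ^ e ∈ Ideal.span {d}
        rw [Ideal.mem_span_singleton]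
        exact hid.dvd.trans (pow_dvd_pow π (by omega))
      exact h1 f
    · intro p hp
      rw [hd] at hp
      change p ∈ Ideal.span {d} at hp
      rw [Ideal.mem_span_singleton] at hp
      have h1 : π ^ (e + 1) ∣ p := by
        have : i = e + 1 := by omega
        rw [this] at hid
        exact hid.symm.dvd.trans hp
      obtain ⟨q, rfl⟩ := h1
      rw [map_mul, he, zero_mul]
  intro w hw hww
  obtain ⟨_, ⟨f₁, rfl⟩, _, ⟨f₂, rfl⟩, rfl⟩ := Submodule.mem_sup.1 hw
  change ∀ u ∈ M g v, B (aeval (cc g) f₁ v + aeval (cc g) f₂ (g v)) u = 0 at hww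
  change aeval (cc g) f₁ v + aeval (cc g) f₂ (g v) = 0
  have h1 : f₁ ∈ I := by
    intro q
    have h2 := hww (aeval (cc g) q (g v)) (Submodule.mem_sup_right ⟨q, rfl⟩)
    rw [map_add, LinearMap.add_apply, adj_aeval (cc_adj hg), adj_aeval (cc_adj hg), ← aeval_mul_app,
      ← aeval_mul_app, self_aeval hB hg, add_zero] at h2
    rwa [g_aeval]
  have h2 : f₂ ∈ I := by
    intro q
    have h2 := hww (aeval (cc g) q v) (Submodule.mem_sup_left ⟨q, rfl⟩)
    rw [map_add, LinearMap.add_apply, adj_aeval (cc_adj hg), ← aeval_mul_app, self_aeval hB hg, zero_add,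
      hB.neg, neg_eq_zero, adj_aeval (cc_adj hg), ← aeval_mul_app, ← g_aeval] at h2
    rwa [mul_comm]
  rw [hI _ h1, hI _ h2]
  simp

section Nil

variable {N : Module.End F V} {m : ℕ}

theorem pow_aeval (hN : N ^ (m + 1) = 0) (f : F[X]) (v : V) :
    (N ^ m) (aeval N f v) = f.coeff 0 • (N ^ m) v := by
  obtain ⟨q, hq⟩ : ∃ q : F[X], f = X * q + C (f.coeff 0) := ⟨f.divX, by rw [mul_comm]; exact (divX_mul_X_add f).symm⟩
  have h1 : (N ^ m) (N (aeval N q v)) = 0 := by
    rw [← Module.End.mul_apply, ← pow_succ, hN, LinearMap.zero_apply]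
  conv_lhs => rw [hq]
  simp only [map_add, map_mul, aeval_X, aeval_C, LinearMap.add_apply, Module.End.mul_apply,
    Module.algebraMap_end_apply, map_smul, h1, zero_add]

theorem aeval_X_pow_mul (i : ℕ) (f : F[X]) (v : V) : aeval N (X ^ i * f) v = (N ^ i) (aeval N f v) := by
  rw [map_mul, map_pow, aeval_X, Module.End.mul_apply]

theorem pow_pow_app (N : Module.End F V) (i j : ℕ) (v : V) : (N ^ i) ((N ^ j) v) = (N ^ (i + j)) v := by
  rw [pow_add, Module.End.mul_apply]

/-- An element `p(N) x + s(N) y` orthogonal to the relevant vectors has `p`, `s` divisible by `X ^ (m+1)`. -/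
theorem pair_free {B : LinearMap.BilinForm F V} (hN : N ^ (m + 1) = 0) {x y : V}
    (hx : B x ((N ^ m) x) = 0) (hy : B y ((N ^ m) y) = 0) (hxy : B x ((N ^ m) y) ≠ 0)
    (hyx : B y ((N ^ m) x) ≠ 0) (p s : F[X])
    (h1 : ∀ j : ℕ, B x ((N ^ j) (aeval N p x + aeval N s y)) = 0)
    (h2 : ∀ j : ℕ, B y ((N ^ j) (aeval N p x + aeval N s y)) = 0) : X ^ (m + 1) ∣ p ∧ X ^ (m + 1) ∣ s := by
  have key : ∀ i : ℕ, i ≤ m + 1 → X ^ i ∣ p ∧ X ^ i ∣ s := by
    intro i
    induction i with
    | zero => intro _; simp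
    | succ i ih =>
      intro hi
      obtain ⟨⟨p₁, hp₁⟩, ⟨s₁, hs₁⟩⟩ := ih (by omega)
      have e1 : (N ^ (m - i)) (aeval N p x + aeval N s y) = p₁.coeff 0 • (N ^ m) x + s₁.coeff 0 • (N ^ m) y := by
        rw [hp₁, hs₁, aeval_X_pow_mul, aeval_X_pow_mul, map_add, pow_pow_app, pow_pow_app,
          show m - i + i = m by omega, pow_aeval hN, pow_aeval hN]
      have h3 := h1 (m - i)
      have h4 := h2 (m - i)
      rw [e1, map_add, map_smul, map_smul, hx, smul_zero, zero_add, smul_eq_mul] at h3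
      rw [e1, map_add, map_smul, map_smul, hy, smul_zero, add_zero, smul_eq_mul] at h4
      have h5 := (mul_eq_zero.1 h3).resolve_right hxy
      have h6 := (mul_eq_zero.1 h4).resolve_right hyx
      constructor
      · rw [hp₁, pow_succ]
        exact mul_dvd_mul_left _ (X_dvd_iff.2 h6)
      · rw [hs₁, pow_succ]
        exact mul_dvd_mul_left _ (X_dvd_iff.2 h5)
  exact key (m + 1) le_rfl

theorem single_free {B : LinearMap.BilinForm F V} (hN : N ^ (m + 1) = 0) {x : V}
    (hx : B x ((N ^ m) x) ≠ 0) (p : F[X])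
    (h1 : ∀ j : ℕ, B x ((N ^ j) (aeval N p x)) = 0) : X ^ (m + 1) ∣ p := by
  have key : ∀ i : ℕ, i ≤ m + 1 → X ^ i ∣ p := by
    intro i
    induction i with
    | zero => intro _; simp
    | succ i ih =>
      intro hi
      obtain ⟨p₁, hp₁⟩ := ih (by omega)
      have e1 : (N ^ (m - i)) (aeval N p x) = p₁.coeff 0 • (N ^ m) x := by
        rw [hp₁, aeval_X_pow_mul, pow_pow_app, show m - i + i = m by omega, pow_aeval hN]
      have h3 := h1 (m - i)
      rw [e1, map_smul, smul_eq_mul] at h3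
      have h5 := (mul_eq_zero.1 h3).resolve_right hx
      rw [hp₁, pow_succ]
      exact mul_dvd_mul_left _ (X_dvd_iff.2 h5)
  exact key (m + 1) le_rfl

end Nil

/-- `h - 1` -/
def nn (h : V ≃ₗ[F] V) : Module.End F V := (h : V →ₗ[F] V) - 1

theorem nn_apply (h : V ≃ₗ[F] V) (v : V) : nn h v = h v - v := rfl

section Unip

variable [FiniteDimensional F V]

theorem M_eq (h : V ≃ₗ[F] V) (v : V) : M h v = K (nn h) v := by
  apply le_antisymm
  · have h1 : ∀ w ∈ K (nn h) v, h w ∈ K (nn h) v := by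
      intro w hw
      have : h w = nn h w + w := by rw [nn_apply]; abel
      rw [this]
      exact Submodule.add_mem _ (K_inv hw) hw
    exact M_le h1 (inv_mem_of_mem h1) (self_mem_K _ _)
  · apply K_le _ (self_mem_M h v)
    intro w hw
    rw [nn_apply]
    exact Submodule.sub_mem _ (M_inv hw) hw

theorem nn_pow_mem {h : V ≃ₗ[F] V} {P : Submodule F V} (hP : ∀ w ∈ P, h w ∈ P) (j : ℕ) :
    ∀ w ∈ P, (nn h ^ j) w ∈ P := by
  induction j with
  | zero => intro w hw; simpa using hw
  | succ j ih =>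
    intro w hw
    rw [pow_succ, Module.End.mul_apply]
    apply ih
    rw [nn_apply]
    exact P.sub_mem (hP w hw) hw

/-- the radical of an invariant subspace is invariant -/
theorem rad_inv {B : LinearMap.BilinForm F V} {h : V ≃ₗ[F] V} (hB : Alt B) (hh : Iso B h)
    {P : Submodule F V} (hP : ∀ w ∈ P, h w ∈ P) {r : V} (hr : r ∈ P) (hrad : ∀ w ∈ P, B r w = 0) (j : ℕ) :
    ∀ w ∈ P, B w ((nn h ^ j) r) = 0 := by
  have h1 : ∀ j : ℕ, (nn h ^ j) r ∈ P ∧ ∀ w ∈ P, B ((nn h ^ j) r) w = 0 := by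
    intro j
    induction j with
    | zero => exact ⟨by simpa using hr, by simpa using hrad⟩
    | succ j ih =>
      rw [pow_succ', Module.End.mul_apply, nn_apply]
      refine ⟨P.sub_mem (hP _ ih.1) ih.1, fun w hw => ?_⟩
      rw [map_sub, LinearMap.sub_apply, ih.2 w hw, hh.adj, ih.2 _ (inv_mem_of_mem hP w hw), sub_zero]
  intro w hw
  exact hB.zero ((h1 j).2 w hw)

theorem nd_single {B : LinearMap.BilinForm F V} {h : V ≃ₗ[F] V} (hB : Alt B) (hh : Iso B h) {m : ℕ}
    (hN : nn h ^ (m + 1) = 0) {x : V} (hx : B x ((nn h ^ m) x) ≠ 0) : Nd B (M h x) := by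
  intro r hr hrad
  have h0 := hr
  rw [M_eq] at h0
  obtain ⟨p, rfl⟩ := h0
  change aeval (nn h) p x = 0
  have h1 := rad_inv hB hh (fun w hw => M_inv hw) hr hrad
  obtain ⟨q, hq⟩ := single_free hN hx p (fun j => h1 j x (self_mem_M _ _))
  rw [hq, aeval_X_pow_mul, hN, LinearMap.zero_apply]

theorem nd_pair {B : LinearMap.BilinForm F V} {h : V ≃ₗ[F] V} (hB : Alt B) (hh : Iso B h) {m : ℕ}
    (hN : nn h ^ (m + 1) = 0) {x y : V} (hx : B x ((nn h ^ m) x) = 0) (hy : B y ((nn h ^ m) y) = 0)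
    (hxy : B x ((nn h ^ m) y) ≠ 0) (hyx : B y ((nn h ^ m) x) ≠ 0) : Nd B (M h x ⊔ M h y) := by
  intro r hr hrad
  have hinv : ∀ w ∈ M h x ⊔ M h y, h w ∈ M h x ⊔ M h y := by
    intro w hw
    obtain ⟨a, ha, b, hb, rfl⟩ := Submodule.mem_sup.1 hw
    rw [map_add]
    exact Submodule.add_mem_sup (M_inv ha) (M_inv hb)
  obtain ⟨a, ha, b, hb, rfl⟩ := Submodule.mem_sup.1 hr
  rw [M_eq] at ha hb
  obtain ⟨p, rfl⟩ := ha
  obtain ⟨s, rfl⟩ := hb
  change aeval (nn h) p x + aeval (nn h) s y = 0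
  have h1 := rad_inv hB hh hinv hr hrad
  obtain ⟨⟨q, hq⟩, ⟨q', hq'⟩⟩ := pair_free hN hx hy hxy hyx p s
    (fun j => h1 j x (Submodule.mem_sup_left (self_mem_M _ _)))
    (fun j => h1 j y (Submodule.mem_sup_right (self_mem_M _ _)))
  rw [hq, hq', aeval_X_pow_mul, aeval_X_pow_mul, hN, LinearMap.zero_apply, LinearMap.zero_apply, add_zero]

/-- dimension count -/
theorem finrank_pair {B : LinearMap.BilinForm F V} {h : V ≃ₗ[F] V} {m : ℕ}
    (hN : nn h ^ (m + 1) = 0) {x y : V} (hx : B x ((nn h ^ m) x) = 0) (hy : B y ((nn h ^ m) y) = 0)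
    (hxy : B x ((nn h ^ m) y) ≠ 0) (hyx : B y ((nn h ^ m) x) ≠ 0) (htop : M h x ⊔ M h y = ⊤) :
    Module.finrank F V = 2 * (m + 1) := by
  let φ : (degreeLT F (m + 1)) × (degreeLT F (m + 1)) →ₗ[F] V :=
    (((LinearMap.applyₗ x : Module.End F V →ₗ[F] V) ∘ₗ
      (aeval (nn h) : F[X] →ₐ[F] Module.End F V).toLinearMap) ∘ₗ (degreeLT F (m + 1)).subtype).coprod
    (((LinearMap.applyₗ y : Module.End F V →ₗ[F] V) ∘ₗ
      (aeval (nn h) : F[X] →ₐ[F] Module.End F V).toLinearMap) ∘ₗ (degreeLT F (m + 1)).subtype)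
  have hφ : ∀ p s, φ (p, s) = aeval (nn h) (p : F[X]) x + aeval (nn h) (s : F[X]) y := fun p s => rfl
  have hinj : Function.Injective φ := by
    rw [← LinearMap.ker_eq_bot, LinearMap.ker_eq_bot']
    rintro ⟨p, s⟩ h0
    rw [hφ] at h0
    obtain ⟨h1, h2⟩ := pair_free hN hx hy hxy hyx p s (fun j => by rw [h0, map_zero, map_zero])
      (fun j => by rw [h0, map_zero, map_zero])
    have key : ∀ q : degreeLT F (m + 1), X ^ (m + 1) ∣ (q : F[X]) → q = 0 := by
      intro q hq
      apply Subtype.ext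
      by_contra hne
      have h3 := Polynomial.degree_le_of_dvd hq hne
      have h4 := mem_degreeLT.1 q.2
      rw [degree_X_pow] at h3
      exact absurd (lt_of_le_of_lt h3 h4) (lt_irrefl _)
    rw [key p h1, key s h2]
    rfl
  have hred : ∀ (p : F[X]) (z : V), ∃ q : degreeLT F (m + 1), aeval (nn h) (q : F[X]) z = aeval (nn h) p z := by
    intro p z
    refine ⟨⟨p %ₘ (X ^ (m + 1)), ?_⟩, ?_⟩
    · rw [mem_degreeLT]
      have := degree_modByMonic_lt p (monic_X_pow (R := F) (m + 1))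
      rwa [degree_X_pow] at this
    · have h1 := modByMonic_add_div p (X ^ (m + 1) : F[X])
      have h2 : aeval (nn h) p z = aeval (nn h) (p %ₘ (X ^ (m + 1)) + X ^ (m + 1) * (p /ₘ (X ^ (m + 1)))) z := by
        rw [h1]
      rw [h2, map_add, LinearMap.add_apply, aeval_X_pow_mul, hN, LinearMap.zero_apply, add_zero]
  have hsur : Function.Surjective φ := by
    intro v
    obtain ⟨a, ha, b, hb, rfl⟩ := mem_sup_top htop v
    rw [M_eq] at ha hb
    obtain ⟨p, rfl⟩ := ha
    obtain ⟨s, rfl⟩ := hb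
    obtain ⟨p', hp'⟩ := hred p x
    obtain ⟨s', hs'⟩ := hred s y
    exact ⟨(p', s'), by rw [hφ, hp', hs']; rfl⟩
  have h1 := (LinearEquiv.ofBijective φ ⟨hinj, hsur⟩).finrank_eq
  have h2 : Module.finrank F (degreeLT F (m + 1)) = m + 1 := by
    rw [(degreeLTEquiv F (m + 1)).finrank_eq, Module.finrank_fin_fun]
  have : FiniteDimensional F (degreeLT F (m + 1)) := Module.Finite.equiv (degreeLTEquiv F (m + 1)).symm
  rw [← h1, Module.finrank_prod, h2]
  ring

end Unip

end Cfsg.Agent.H144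
end
end

-- part: H144/Jcon
section
/-!
# Double Jordan blocks of odd size are inverted by a complex structure

`h` unipotent, `N = h - 1`, `N ^ (2 a + 1) = 0`, `V = F[h] x + F[h] y`, `B(v, N ^ (2 a) v) = 0` for all `v` and
`B(x, N ^ (2 a) y) ≠ 0`. Over a field of characteristic not two there is an isometry `J` with `J² = -1`,
`J h J⁻¹ = h⁻¹`.
-/

set_option autoImplicit false
open Polynomial

noncomputable section

namespace Cfsg.Agent.H144

variable {F V : Type*} [Field F] [AddCommGroup V] [Module F V]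

/-- `h + h⁻¹ - 2` -/
def ss (h : V ≃ₗ[F] V) : Module.End F V := cc h - algebraMap F (Module.End F V) 2

theorem ss_eq (h : V ≃ₗ[F] V) : ss h = aeval (cc h) (X - C 2 : F[X]) := by
  rw [map_sub, aeval_X, aeval_C]; rfl

theorem ss_pow (h : V ≃ₗ[F] V) (j : ℕ) : ss h ^ j = aeval (cc h) ((X - C 2 : F[X]) ^ j) := by
  rw [map_pow, ss_eq]

theorem ss_apply (h : V ≃ₗ[F] V) (v : V) : ss h v = cc h v - (2 : F) • v := rfl

theorem isUnit_coe (h : V ≃ₗ[F] V) : IsUnit (h : Module.End F V) :=
  ⟨⟨(h : Module.End F V), ((h⁻¹ : V ≃ₗ[F] V) : Module.End F V),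
    by ext v; exact app_inv h v, by ext v; exact inv_app h v⟩, rfl⟩

theorem h_mul_ss (h : V ≃ₗ[F] V) : (h : Module.End F V) * ss h = nn h ^ 2 := by
  ext v
  rw [pow_two, Module.End.mul_apply, Module.End.mul_apply, nn_apply, nn_apply]
  change h (cc h v - (2 : F) • v) = _
  rw [cc_apply, map_sub, map_add, map_smul, app_inv, map_sub]
  module

theorem comm_h_cc (h : V ≃ₗ[F] V) : Commute (h : Module.End F V) (cc h) := by
  ext v
  exact cc_comm h v

theorem comm_h_ss (h : V ≃ₗ[F] V) : Commute (h : Module.End F V) (ss h) := by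
  ext v
  change h (cc h v - (2 : F) • v) = cc h (h v) - (2 : F) • h v
  rw [map_sub, cc_comm, map_smul]

theorem comm_nn_ss (h : V ≃ₗ[F] V) : Commute (nn h) (ss h) := by
  unfold nn
  exact (comm_h_ss h).sub_left (Commute.one_left _)

theorem comm_h_nn (h : V ≃ₗ[F] V) : Commute (h : Module.End F V) (nn h) := by
  unfold nn
  exact (Commute.refl _).sub_right (Commute.one_right _)

theorem nn_pow_two_mul (h : V ≃ₗ[F] V) (j : ℕ) :
    nn h ^ (2 * j) = (h : Module.End F V) ^ j * ss h ^ j := by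
  rw [pow_mul, ← h_mul_ss, (comm_h_ss h).mul_pow]

theorem ss_pow_zero {h : V ≃ₗ[F] V} {j : ℕ} (hN : nn h ^ (2 * j) = 0) : ss h ^ j = 0 := by
  rw [nn_pow_two_mul] at hN
  exact ((isUnit_coe h).pow j).mul_right_eq_zero.1 hN

theorem nn_ss_pow_zero {h : V ≃ₗ[F] V} {j : ℕ} (hN : nn h ^ (2 * j + 1) = 0) : nn h * ss h ^ j = 0 := by
  rw [pow_succ', nn_pow_two_mul, ← mul_assoc, ← ((comm_h_nn h).pow_left j).eq, mul_assoc] at hN
  exact ((isUnit_coe h).pow j).mul_right_eq_zero.1 hN

theorem ss_pow_eq {h : V ≃ₗ[F] V} {j : ℕ} (hN : nn h ^ (2 * j + 1) = 0) : nn h ^ (2 * j) = ss h ^ j := by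
  have h1 := nn_ss_pow_zero hN
  have h2 : (h : Module.End F V) * ss h ^ j = ss h ^ j := by
    have h3 : (h : Module.End F V) = nn h + 1 := by unfold nn; abel
    rw [h3, add_mul, h1, one_mul, zero_add]
  have h4 : ∀ i : ℕ, (h : Module.End F V) ^ i * ss h ^ j = ss h ^ j := by
    intro i
    induction i with
    | zero => simp
    | succ i ih => rw [pow_succ, mul_assoc, h2, ih]
  rw [nn_pow_two_mul, h4]

theorem ss_app_pow (h : V ≃ₗ[F] V) (j : ℕ) (v : V) : ss h ((ss h ^ j) v) = (ss h ^ (j + 1)) v := by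
  rw [pow_succ', Module.End.mul_apply]

section Form

variable {B : LinearMap.BilinForm F V} {h : V ≃ₗ[F] V}

theorem ss_adj (hh : Iso B h) (j : ℕ) (v w : V) : B ((ss h ^ j) v) w = B v ((ss h ^ j) w) := by
  rw [ss_pow]
  exact adj_aeval (cc_adj hh) _ v w

theorem nn_nn (hh : Iso B h) (v w : V) : B (nn h v) (nn h w) = - B v (ss h w) := by
  rw [nn_apply, nn_apply, sub_form hh, ss_apply, map_sub, map_smul, smul_eq_mul]
  ring

theorem nn_ss_app (h : V ≃ₗ[F] V) (j : ℕ) (v : V) : nn h ((ss h ^ j) v) = (ss h ^ j) (nn h v) := by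
  have := ((comm_nn_ss h).pow_right j).eq
  exact LinearMap.congr_fun this v

theorem exists_isotropic_step (h2 : (2 : F) ≠ 0) (hB : Alt B) (hh : Iso B h) {a : ℕ}
    (hN : nn h ^ (2 * a + 1) = 0) {x y : V} (hxy : B x ((ss h ^ a) y) ≠ 0) (i : ℕ) (hi : i ≤ a) :
    ∃ x', (∀ j, a - i ≤ j → B x' (nn h ((ss h ^ j) x')) = 0) ∧ B x' ((ss h ^ a) y) ≠ 0 := by
  have hz1 : ∀ j v, a ≤ j → nn h ((ss h ^ j) v) = 0 := by
    intro j v hj
    obtain ⟨k, rfl⟩ := Nat.exists_eq_add_of_le hj
    rw [pow_add, Module.End.mul_apply]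
    exact LinearMap.congr_fun (nn_ss_pow_zero hN) _
  have hz2 : ∀ j v, a < j → (ss h ^ j) v = 0 := by
    intro j v hj
    have h3 : nn h ^ (2 * j) = 0 := by
      obtain ⟨k, hk⟩ : ∃ k, 2 * j = (2 * a + 1) + k := ⟨2 * j - (2 * a + 1), by omega⟩
      rw [hk, pow_add, hN, zero_mul]
    rw [ss_pow_zero h3, LinearMap.zero_apply]
  induction i with
  | zero =>
    refine ⟨x, fun j hj => ?_, hxy⟩
    rw [hz1 j x (by omega), map_zero]
  | succ i ih =>
    obtain ⟨x₁, hx₁, hx₂⟩ := ih (by omega)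
    set b := B x₁ ((ss h ^ a) y) with hb
    set τ := - (B x₁ (nn h ((ss h ^ (a - (i + 1))) x₁))) / (2 * b) with hτ
    set u := (ss h ^ i) y with hu
    have hthird : ∀ j, a - (i + 1) ≤ j → B (nn h u) (nn h ((ss h ^ j) (nn h u))) = 0 := by
      intro j hj
      rw [nn_nn hh, hu, ss_adj hh, ss_app_pow, pow_pow_app, ← nn_ss_app, pow_pow_app,
        hz1 _ _ (by omega), map_zero, neg_zero]
    have hcross : ∀ j, B x₁ (nn h ((ss h ^ j) (nn h u))) + B (nn h u) (nn h ((ss h ^ j) x₁)) =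
        B x₁ (h ((ss h ^ (j + i + 1)) y)) + B x₁ ((ss h ^ (j + i + 1)) y) := by
      intro j
      congr 1
      · rw [← nn_ss_app, ← Module.End.mul_apply (nn h) (nn h), ← pow_two, ← h_mul_ss, Module.End.mul_apply, hu,
          pow_pow_app, ss_app_pow]
        rfl
      · rw [hB.neg, nn_nn hh, neg_neg, ss_adj hh, hu, ss_app_pow, pow_pow_app, ← add_assoc]
    have hq : ∀ j, a - (i + 1) ≤ j → B (x₁ + τ • nn h u) (nn h ((ss h ^ j) (x₁ + τ • nn h u))) =
        B x₁ (nn h ((ss h ^ j) x₁)) + τ * (B x₁ (h ((ss h ^ (j + i + 1)) y)) + B x₁ ((ss h ^ (j + i + 1)) y)) := by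
      intro j hj
      rw [← hcross j]
      simp only [map_add, map_smul, LinearMap.add_apply, LinearMap.smul_apply, smul_eq_mul, hthird j hj]
      ring
    refine ⟨x₁ + τ • nn h u, fun j hj => ?_, ?_⟩
    · rw [hq j hj]
      rcases Nat.lt_or_ge (a - (i + 1)) j with hlt | hge
      · rw [hx₁ j (by omega), hz2 (j + i + 1) y (by omega)]
        simp
      · have hj' : j = a - (i + 1) := by omega
        have h3 : j + i + 1 = a := by omega
        have h4 : h ((ss h ^ a) y) = (ss h ^ a) y := by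
          have := hz1 a y le_rfl
          rw [nn_apply, sub_eq_zero] at this
          exact this
        rw [h3, h4, ← hb, hτ, hj']
        field_simp
        ring
    · rw [map_add, LinearMap.add_apply, map_smul, LinearMap.smul_apply]
      have h3 : B (nn h u) ((ss h ^ a) y) = 0 := by
        rw [← ss_adj hh, ← nn_ss_app, hz1 a u le_rfl, map_zero, LinearMap.zero_apply]
      rw [h3, smul_zero, add_zero]
      exact hx₂

theorem exists_isotropic (h2 : (2 : F) ≠ 0) (hB : Alt B) (hh : Iso B h) {a : ℕ}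
    (hN : nn h ^ (2 * a + 1) = 0) {x y : V} (hxy : B x ((ss h ^ a) y) ≠ 0) :
    ∃ x', Orth B (M h x') (M h x') ∧ B x' ((ss h ^ a) y) ≠ 0 := by
  obtain ⟨x', h3, h4⟩ := exists_isotropic_step h2 hB hh hN hxy a le_rfl
  refine ⟨x', ?_, h4⟩
  have h5 : ∀ p : F[X], B x' (nn h (aeval (ss h) p x')) = 0 := by
    intro p
    induction p using Polynomial.induction_on' with
    | add p q hp hq => simp only [map_add, LinearMap.add_apply, hp, hq, add_zero]
    | monomial k a =>
      simp only [aeval_monomial, Module.algebraMap_end_eq_smul_id, Module.End.mul_apply, LinearMap.smul_apply,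
        LinearMap.id_apply, map_smul]
      rw [h3 k (by omega), smul_zero]
  have h6 : ∀ f : F[X], B x' (h (aeval (cc h) f x')) = 0 := by
    intro f
    have e1 : aeval (cc h) f = aeval (ss h) (f.comp (X + C 2)) := by
      rw [aeval_comp]
      congr 2
      rw [map_add, aeval_X, aeval_C]
      unfold ss
      abel
    have e2 := h5 (f.comp (X + C 2))
    rw [← e1, nn_apply, map_sub, self_aeval hB hh, sub_zero] at e2
    exact e2
  apply isotropic_sup hB (K_isotropic hB hh _) (K_isotropic hB hh _)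
  apply K_orth_of hh
  intro f
  rw [← g_aeval]
  exact h6 f

end Form

section Jc

variable [FiniteDimensional F V] {B : LinearMap.BilinForm F V} {h : V ≃ₗ[F] V}

theorem M_eq_h (h : V ≃ₗ[F] V) (v : V) : M h v = K (h : Module.End F V) v := by
  apply le_antisymm
  · have h1 : ∀ w ∈ K (h : Module.End F V) v, h w ∈ K (h : Module.End F V) v := fun w hw => K_inv hw
    exact M_le h1 (inv_mem_of_mem h1) (self_mem_K _ _)
  · exact K_le (fun w hw => M_inv hw) (self_mem_M h v)

theorem exists_J (hB : Alt B) (hN : Nond B) (hh : Iso B h) {x y : V} (hx : Orth B (M h x) (M h x))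
    (hy : Orth B (M h y) (M h y)) (hxy : M h x ⊔ M h y = ⊤) :
    ∃ J : V ≃ₗ[F] V, Iso B J ∧ (∀ v, J (J v) = -v) ∧ ∀ v, J (h v) = h⁻¹ (J v) := by
  let H : Module.End F V := (h : Module.End F V)
  let Hi : Module.End F V := ((h⁻¹ : V ≃ₗ[F] V) : Module.End F V)
  let ev : Module.End F V → V → (F[X] →ₗ[F] V) := fun c v =>
    (LinearMap.applyₗ v : Module.End F V →ₗ[F] V) ∘ₗ (aeval c : F[X] →ₐ[F] Module.End F V).toLinearMap
  let Φ : F[X] × F[X] →ₗ[F] V := (ev H x).coprod (ev H y)
  let Ψ : F[X] × F[X] →ₗ[F] V := (ev Hi y).coprod (-(ev Hi x))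
  have hΦ : ∀ f r : F[X], Φ (f, r) = aeval H f x + aeval H r y := fun f r => rfl
  have hΨ : ∀ f r : F[X], Ψ (f, r) = aeval Hi f y + -(aeval Hi r x) := fun f r => rfl
  have hmx : ∀ f : F[X], aeval H f x ∈ M h x := fun f => by rw [M_eq_h]; exact ⟨f, rfl⟩
  have hmy : ∀ f : F[X], aeval H f y ∈ M h y := fun f => by rw [M_eq_h]; exact ⟨f, rfl⟩
  have hmx' : ∀ f : F[X], aeval Hi f x ∈ M h x := fun f => aeval_mem (fun w hw => M_inv' hw) f _ (self_mem_M _ _)
  have hmy' : ∀ f : F[X], aeval Hi f y ∈ M h y := fun f => aeval_mem (fun w hw => M_inv' hw) f _ (self_mem_M _ _)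
  have hsur : Function.Surjective Φ := by
    intro v
    obtain ⟨p, hp, q, hq, rfl⟩ := mem_sup_top hxy v
    rw [M_eq_h] at hp hq
    obtain ⟨f, rfl⟩ := hp
    obtain ⟨r, rfl⟩ := hq
    exact ⟨(f, r), rfl⟩
  -- adjoints
  have hadj : ∀ (f : F[X]) (v w : V), B v (aeval H f w) = B (aeval Hi f v) w := fun f v w =>
    aeval_adj hh f v w
  have hadj' : ∀ (f : F[X]) (v w : V), B v (aeval Hi f w) = B (aeval H f v) w := by
    intro f v w
    have := aeval_adj hh.inv f v w
    rwa [inv_inv] at this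
  have hcomm : ∀ (f r : F[X]) (v : V), aeval H f (aeval Hi r v) = aeval Hi r (aeval H f v) := by
    intro f r v
    have h1 : ∀ w, Hi (aeval H f w) = aeval H f (Hi w) :=
      comm_aeval (c := H) (g := Hi) (fun w => by
        change h⁻¹ (h w) = h (h⁻¹ w)
        rw [inv_app, app_inv]) f
    exact comm_aeval (c := Hi) (g := aeval H f) (fun w => (h1 w).symm) r v
  have hk1 : ∀ f : F[X], aeval H f x = 0 → aeval Hi f y = 0 := by
    intro f hf
    apply eq_zero_of_orth hN hxy _ (hy _ (hmy' f))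
    intro w hw
    rw [M_eq_h] at hw
    obtain ⟨a, rfl⟩ := hw
    apply hB.zero
    change B (aeval H a x) (aeval Hi f y) = 0
    rw [hadj', aeval_comm_app, hf, map_zero, map_zero, LinearMap.zero_apply]
  have hk2 : ∀ f : F[X], aeval H f y = 0 → aeval Hi f x = 0 := by
    intro f hf
    apply eq_zero_of_orth hN hxy (hx _ (hmx' f))
    intro w hw
    rw [M_eq_h] at hw
    obtain ⟨a, rfl⟩ := hw
    apply hB.zero
    change B (aeval H a y) (aeval Hi f x) = 0
    rw [hadj', aeval_comm_app, hf, map_zero, map_zero, LinearMap.zero_apply]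
  have hker : ∀ u, Φ u = 0 → Ψ u = 0 := by
    rintro ⟨f, r⟩ h0
    rw [hΦ] at h0
    have h1 : aeval H f x = 0 := by
      apply eq_zero_of_orth hN hxy (hx _ (hmx f))
      intro w hw
      have h2 : aeval H f x = -(aeval H r y) := eq_neg_of_add_eq_zero_left h0
      rw [h2, map_neg, LinearMap.neg_apply, hy _ (hmy r) w hw, neg_zero]
    have h2 : aeval H r y = 0 := by rw [h1, zero_add] at h0; exact h0
    rw [hΨ, hk1 f h1, hk2 r h2, neg_zero, add_zero]
  obtain ⟨s, hs⟩ := LinearMap.exists_rightInverse_of_surjective Φ (LinearMap.range_eq_top.2 hsur)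
  let J₀ : V →ₗ[F] V := Ψ ∘ₗ s
  have hJΦ : ∀ u, J₀ (Φ u) = Ψ u := by
    intro u
    change Ψ (s (Φ u)) = Ψ u
    rw [← sub_eq_zero, ← map_sub]
    apply hker
    have := LinearMap.congr_fun hs (Φ u)
    rw [LinearMap.comp_apply, LinearMap.id_apply] at this
    rw [map_sub, this, sub_self]
  have hJh : ∀ v, J₀ (h v) = h⁻¹ (J₀ v) := by
    intro v
    obtain ⟨⟨f, r⟩, rfl⟩ := hsur v
    have h1 : h (Φ (f, r)) = Φ (X * f, X * r) := by
      rw [hΦ, hΦ, map_add, aeval_mul_app, aeval_mul_app, aeval_X]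
      rfl
    have h2 : h⁻¹ (Ψ (f, r)) = Ψ (X * f, X * r) := by
      rw [hΨ, hΨ, map_add, map_neg, aeval_mul_app, aeval_mul_app, aeval_X]
      rfl
    rw [h1, hJΦ, hJΦ, h2]
  have hJx : J₀ x = y := by
    have h1 := hJΦ (1, 0)
    rw [hΦ, hΨ] at h1
    simpa using h1
  have hJy : J₀ y = -x := by
    have h1 := hJΦ (0, 1)
    rw [hΦ, hΨ] at h1
    simpa using h1
  have hJhi : ∀ v, J₀ (h⁻¹ v) = h (J₀ v) := by
    intro v
    have h1 := hJh (h⁻¹ v)
    rw [app_inv] at h1
    rw [h1, app_inv]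
  have hJf : ∀ (f : F[X]) v, J₀ (aeval H f v) = aeval Hi f (J₀ v) := by
    intro f v
    induction f using Polynomial.induction_on' generalizing v with
    | add p q hp hq => simp only [map_add, LinearMap.add_apply, hp, hq]
    | monomial k a =>
      have hk : ∀ k : ℕ, ∀ v, J₀ ((H ^ k) v) = (Hi ^ k) (J₀ v) := by
        intro k
        induction k with
        | zero => intro v; simp
        | succ k ih =>
          intro v
          rw [pow_succ, Module.End.mul_apply, ih, pow_succ, Module.End.mul_apply]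
          congr 1
          exact hJh v
      simp only [aeval_monomial, Module.algebraMap_end_eq_smul_id, Module.End.mul_apply, LinearMap.smul_apply,
        LinearMap.id_apply, hk, map_smul]
  have hJfi : ∀ (f : F[X]) v, J₀ (aeval Hi f v) = aeval H f (J₀ v) := by
    intro f v
    induction f using Polynomial.induction_on' generalizing v with
    | add p q hp hq => simp only [map_add, LinearMap.add_apply, hp, hq]
    | monomial k a =>
      have hk : ∀ k : ℕ, ∀ v, J₀ ((Hi ^ k) v) = (H ^ k) (J₀ v) := by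
        intro k
        induction k with
        | zero => intro v; simp
        | succ k ih =>
          intro v
          rw [pow_succ, Module.End.mul_apply, ih, pow_succ, Module.End.mul_apply]
          congr 1
          exact hJhi v
      simp only [aeval_monomial, Module.algebraMap_end_eq_smul_id, Module.End.mul_apply, LinearMap.smul_apply,
        LinearMap.id_apply, hk, map_smul]
  have hJJ : ∀ v, J₀ (J₀ v) = -v := by
    intro v
    obtain ⟨⟨f, r⟩, rfl⟩ := hsur v
    rw [hJΦ, hΨ, hΦ, map_add, map_neg, hJfi, hJfi, hJx, hJy, map_neg]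
    abel
  let J : V ≃ₗ[F] V := LinearEquiv.ofLinearMap J₀ (-J₀)
    (by ext v; change J₀ (-(J₀ v)) = v; rw [map_neg, hJJ, neg_neg])
    (by ext v; change -(J₀ (J₀ v)) = v; rw [hJJ, neg_neg])
  refine ⟨J, ?_, hJJ, hJh⟩
  intro v w
  change B (J₀ v) (J₀ w) = B v w
  obtain ⟨⟨f, r⟩, rfl⟩ := hsur v
  obtain ⟨⟨f', r'⟩, rfl⟩ := hsur w
  rw [hJΦ, hJΦ, hΨ, hΨ, hΦ, hΦ]
  simp only [map_add, LinearMap.add_apply, map_neg, LinearMap.neg_apply]
  rw [hx _ (hmx f) _ (hmx f'), hy _ (hmy r) _ (hmy r'), hy _ (hmy' f) _ (hmy' f'), hx _ (hmx' r) _ (hmx' r')]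
  have e1 : B (aeval Hi f y) (aeval Hi r' x) = - B (aeval H f x) (aeval H r' y) := by
    rw [hB.neg, hadj, hadj', hcomm]
  have e2 : B (aeval Hi r x) (aeval Hi f' y) = - B (aeval H r y) (aeval H f' x) := by
    rw [hB.neg (aeval H r y), neg_neg, hadj, hadj', hcomm]
  rw [e1, e2]
  ring

end Jc

end Cfsg.Agent.H144
end
end

-- part: H144/Indec
section
/-!
# Orthogonally indecomposable isometries of a symplectic space
-/

set_option autoImplicit false
open Polynomial

noncomputable section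

namespace Cfsg.Agent.H144

variable {F V : Type*} [Field F] [AddCommGroup V] [Module F V]

/-- `g P ≤ P` -/
def Inv (g : V ≃ₗ[F] V) (P : Submodule F V) : Prop := ∀ v ∈ P, g v ∈ P

/-- orthogonally indecomposable -/
def Indec (B : LinearMap.BilinForm F V) (g : V ≃ₗ[F] V) : Prop :=
  ∀ P : Submodule F V, Inv g P → Nd B P → P = ⊥ ∨ P = ⊤

theorem val_lemma {h : V ≃ₗ[F] V} {m : ℕ} (hN : nn h ^ (m + 1) = 0) {ε : ℕ} (hε : Odd (m + ε)) {x : V}
    (hx : (nn h ^ m) x ≠ 0) (p : F[X]) (hp : aeval (ss h) p ((nn h ^ ε) x) = (nn h ^ m) x) : False := by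
  have hp0 : p ≠ 0 := by
    rintro rfl
    rw [map_zero, LinearMap.zero_apply] at hp
    exact hx hp.symm
  obtain ⟨q, hpq, hq⟩ := (FiniteMultiplicity.of_prime_left (prime_X (R := F)) hp0).exists_eq_pow_mul_and_not_dvd
  rw [X_dvd_iff] at hq
  set i := multiplicity X p
  have hcomm : ∀ (j k : ℕ) (v : V), (nn h ^ j) ((ss h ^ k) v) = (ss h ^ k) ((nn h ^ j) v) := by
    intro j k v
    exact LinearMap.congr_fun ((comm_nn_ss h).pow_pow j k).eq v
  have hcommp : ∀ (j : ℕ) (r : F[X]) (v : V), (nn h ^ j) (aeval (ss h) r v) = aeval (ss h) r ((nn h ^ j) v) := by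
    intro j r v
    exact comm_aeval (c := ss h) (g := nn h ^ j) (fun w => by
      have := hcomm j 1 w
      rwa [pow_one] at this) r v
  have hH : ∀ (k : ℕ) (v : V), ((h : Module.End F V) ^ k) ((ss h ^ k) v) = (nn h ^ (2 * k)) v := by
    intro k v
    rw [nn_pow_two_mul, Module.End.mul_apply]
  have hHinj : ∀ (k : ℕ) (v : V), ((h : Module.End F V) ^ k) v = 0 → v = 0 := by
    intro k v hv
    obtain ⟨u, hu⟩ := (isUnit_coe h).pow k
    have : (u⁻¹ : (Module.End F V)ˣ).val (u.val v) = v := by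
      rw [← Module.End.mul_apply, Units.inv_mul, Module.End.one_apply]
    rw [← hu] at hv
    rw [← this, hv, map_zero]
  have hcH : ∀ (j k : ℕ) (v : V), ((h : Module.End F V) ^ k) ((nn h ^ j) v) = (nn h ^ j) (((h : Module.End F V) ^ k) v) := by
    intro j k v
    exact LinearMap.congr_fun ((comm_h_nn h).pow_pow k j).eq v
  have hzero : ∀ (j : ℕ) (v : V), m + 1 ≤ j → (nn h ^ j) v = 0 := by
    intro j v hj
    obtain ⟨k, rfl⟩ := Nat.exists_eq_add_of_le hj
    rw [pow_add, hN, zero_mul, LinearMap.zero_apply]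
  have hp' : (ss h ^ i) (aeval (ss h) q ((nn h ^ ε) x)) = (nn h ^ m) x := by
    rw [hpq, aeval_mul_app, map_pow, aeval_X] at hp
    exact hp
  rcases Nat.lt_or_ge m (2 * i + ε) with hlt | hge
  · apply hx
    rw [← hp']
    apply hHinj i
    rw [hH, ← hcommp, pow_pow_app, hzero _ _ (by omega)]
  · have hne : 2 * i + ε ≠ m := by
      rintro rfl
      rw [Nat.odd_iff] at hε
      omega
    set d := m - (2 * i + ε) with hd
    have h1 : (nn h ^ d) ((ss h ^ i) (aeval (ss h) q ((nn h ^ ε) x))) = 0 := by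
      rw [hp', pow_pow_app, hzero _ _ (by omega)]
    have h2 : ((h : Module.End F V) ^ i) ((nn h ^ d) ((ss h ^ i) (aeval (ss h) q ((nn h ^ ε) x)))) = 0 := by
      rw [h1, map_zero]
    rw [hcH, hH, ← hcommp, pow_pow_app, pow_pow_app, show d + 2 * i + ε = m by omega] at h2
    have h3 : (nn h ^ m) (aeval (ss h) q x) = q.coeff 0 • (nn h ^ m) x := by
      obtain ⟨r, hr⟩ : ∃ r : F[X], q = X * r + C (q.coeff 0) := ⟨q.divX, by rw [mul_comm]; exact (divX_mul_X_add q).symm⟩
      have h4 : (nn h ^ m) (ss h (aeval (ss h) r x)) = 0 := by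
        apply hHinj 1
        have h5 := hH 1 (aeval (ss h) r x)
        rw [pow_one (ss h)] at h5
        rw [hcH, h5, pow_pow_app, hzero _ _ (by omega)]
      conv_lhs => rw [hr]
      simp only [map_add, map_mul, aeval_X, aeval_C, LinearMap.add_apply, Module.End.mul_apply,
        Module.algebraMap_end_apply, map_smul, h4, zero_add]
    rw [h3] at h2
    exact (smul_eq_zero.1 h2).elim hq hx

theorem aeval_cc_eq (h : V ≃ₗ[F] V) (f : F[X]) : aeval (cc h) f = aeval (ss h) (f.comp (X + C 2)) := by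
  rw [aeval_comp]
  congr 2
  rw [map_add, aeval_X, aeval_C]
  unfold ss
  abel

variable [FiniteDimensional F V]

theorem exists_rep {B : LinearMap.BilinForm F V} (hB : Alt B) (hN : Nond B) (φ : V →ₗ[F] F) :
    ∃ y, ∀ v, B v y = φ v := by
  have hinj : Function.Injective B.flip := by
    rw [← LinearMap.ker_eq_bot, LinearMap.ker_eq_bot']
    intro y hy
    apply hN
    intro w
    apply hB.zero
    exact LinearMap.congr_fun hy w
  have hfin : Module.finrank F V = Module.finrank F (V →ₗ[F] F) := (Subspace.dual_finrank_eq (K := F) (V := V)).symm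
  obtain ⟨y, hy⟩ := (LinearMap.injective_iff_surjective_of_finrank_eq_finrank hfin).1 hinj φ
  exact ⟨y, fun v => LinearMap.congr_fun hy v⟩

theorem exists_sep {B : LinearMap.BilinForm F V} (hB : Alt B) (hN : Nond B) {P : Submodule F V} {v : V}
    (hv : v ∉ P) : ∃ y, (∀ w ∈ P, B w y = 0) ∧ B v y ≠ 0 := by
  obtain ⟨φ, h1, h2⟩ := Submodule.exists_le_ker_of_notMem hv
  obtain ⟨y, hy⟩ := exists_rep hB hN φ
  exact ⟨y, fun w hw => by rw [hy]; exact h2 hw, by rw [hy]; exact h1⟩

theorem M_sup_inv (h : V ≃ₗ[F] V) (x y : V) : Inv h (M h x ⊔ M h y) := by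
  intro w hw
  obtain ⟨a, ha, b, hb, rfl⟩ := Submodule.mem_sup.1 hw
  rw [map_add]
  exact Submodule.add_mem_sup (M_inv ha) (M_inv hb)

/-- the conclusion for the exceptional indecomposable pieces -/
def Exc (B : LinearMap.BilinForm F V) (h : V ≃ₗ[F] V) : Prop :=
  C1 B h ∧ ∃ a : ℕ, Module.finrank F V = 2 * (2 * a + 1) ∧ (a = 0 → ∀ v, h v = v) ∧
    ∃ J : V ≃ₗ[F] V, Iso B J ∧ (∀ v, J (J v) = -v) ∧ ∀ v, J (h v) = h⁻¹ (J v)

theorem indec_unip {B : LinearMap.BilinForm F V} (hB : Alt B) (hN : Nond B) {h : V ≃ₗ[F] V} (hh : Iso B h)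
    (hI : Indec B h) {m : ℕ} (hm : nn h ^ (m + 1) = 0) (hm' : nn h ^ m ≠ 0) :
    (∃ v, M h v = ⊤) ∨ (C1 B h ∧ (2 : F) = 0) ∨ Exc B h := by
  by_cases hcase : ∃ v, B v ((nn h ^ m) v) ≠ 0
  · obtain ⟨v, hv⟩ := hcase
    left
    refine ⟨v, (hI _ (fun w hw => M_inv hw) (nd_single hB hh hm hv)).resolve_left ?_⟩
    intro h0
    have : v ∈ (⊥ : Submodule F V) := by rw [← h0]; exact self_mem_M _ _
    rw [Submodule.mem_bot] at this
    exact hv (by rw [this]; simp)
  right
  push Not at hcase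
  have hpol : ∀ x y, B x ((nn h ^ m) y) = - B y ((nn h ^ m) x) := by
    intro x y
    have h1 := hcase (x + y)
    simp only [map_add, LinearMap.add_apply, hcase x, hcase y] at h1
    linear_combination h1
  obtain ⟨x, y, hxy⟩ : ∃ x y, B x ((nn h ^ m) y) ≠ 0 := by
    by_contra hcon
    push Not at hcon
    apply hm'
    ext y
    rw [LinearMap.zero_apply]
    apply hN
    intro x
    exact hB.zero (hcon x y)
  have hyx : B y ((nn h ^ m) x) ≠ 0 := by
    intro h0
    rw [hpol, h0, neg_zero] at hxy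
    exact hxy rfl
  have htop : ∀ x y, B x ((nn h ^ m) y) ≠ 0 → M h x ⊔ M h y = ⊤ := by
    intro x y hxy
    refine (hI _ (M_sup_inv h x y) (nd_pair hB hh hm (hcase x) (hcase y) hxy (by
      intro h0
      rw [hpol, h0, neg_zero] at hxy
      exact hxy rfl))).resolve_left ?_
    intro h0
    have : x ∈ (⊥ : Submodule F V) := by rw [← h0]; exact Submodule.mem_sup_left (self_mem_M _ _)
    rw [Submodule.mem_bot] at this
    exact hxy (by rw [this]; simp)
  have hNx : (nn h ^ m) x ≠ 0 := by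
    intro h0
    exact hyx (by rw [h0, map_zero])
  have hC1 : ∀ {P : Submodule F V}, P = ⊤ → C1On B h P → C1 B h := by
    rintro P rfl ⟨Q, R, h1, h2, h3, h4⟩
    exact ⟨Q, R, h1, h2, h3, h4⟩
  rcases Nat.even_or_odd' m with ⟨a, hma | hma⟩
  · -- m even
    have hnot : (nn h ^ m) x ∉ K (cc h) (x - h⁻¹ x) := by
      rintro ⟨f, hf⟩
      change aeval (cc h) f (x - h⁻¹ x) = _ at hf
      rw [aeval_cc_eq] at hf
      have h1 : ∀ v, h ((nn h ^ m) v) = (nn h ^ m) v := by
        intro v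
        have h2 : nn h ((nn h ^ m) v) = 0 := by
          rw [← Module.End.mul_apply, ← pow_succ', hm, LinearMap.zero_apply]
        rw [nn_apply, sub_eq_zero] at h2
        exact h2
      have h3 := congrArg (fun w => h w) hf
      rw [h1, ← aeval_cc_eq, g_aeval, map_sub, app_inv, ← nn_apply, aeval_cc_eq] at h3
      exact val_lemma hm (ε := 1) (by rw [hma]; exact ⟨a, rfl⟩) hNx _ (by rw [pow_one]; exact h3)
    obtain ⟨z, hz1, hz2⟩ := exists_sep hB hN hnot
    have hxz : B x ((nn h ^ m) z) ≠ 0 := by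
      rw [hpol, ← hB.neg]
      exact hz2
    have hC : C1 B h := hC1 (htop x z hxz) (c1_of_odd hB hh (fun f => by
      rw [← adj_aeval (cc_adj hh)]
      exact hz1 _ ⟨f, rfl⟩))
    by_cases h2 : (2 : F) = 0
    · exact Or.inl ⟨hC, h2⟩
    right
    have hfin := finrank_pair hm (hcase x) (hcase y) hxy hyx (htop x y hxy)
    rw [hma] at hm
    have hSN := ss_pow_eq hm
    rw [hma, hSN] at hxy
    obtain ⟨x', hx1, hx2⟩ := exists_isotropic h2 hB hh hm hxy
    have hyx' : B y ((ss h ^ a) x') ≠ 0 := by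
      rw [hB.neg, ss_adj hh]
      exact neg_ne_zero.2 hx2
    obtain ⟨y', hy1, hy2⟩ := exists_isotropic h2 hB hh hm hyx'
    have hxy' : B x' ((nn h ^ m) y') ≠ 0 := by
      rw [hma, hSN, hB.neg, ss_adj hh]
      exact neg_ne_zero.2 hy2
    obtain ⟨J, hJ1, hJ2, hJ3⟩ := exists_J hB hN hh hx1 hy1 (htop x' y' hxy')
    refine ⟨hC, a, by rw [hfin, hma], ?_, J, hJ1, hJ2, hJ3⟩
    rintro rfl v
    have h3 : nn h v = 0 := by
      rw [mul_zero, zero_add, pow_one] at hm
      rw [hm, LinearMap.zero_apply]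
    rw [nn_apply, sub_eq_zero] at h3
    exact h3
  · -- m odd
    left
    have hnot : (nn h ^ m) x ∉ K (cc h) x := by
      rintro ⟨f, hf⟩
      change aeval (cc h) f x = _ at hf
      rw [aeval_cc_eq] at hf
      exact val_lemma hm (ε := 0) (by rw [hma]; exact ⟨a, rfl⟩) hNx _ (by rw [pow_zero]; exact hf)
    obtain ⟨z, hz1, hz2⟩ := exists_sep hB hN hnot
    have hxz : B x ((nn h ^ m) z) ≠ 0 := by
      rw [hpol, ← hB.neg]
      exact hz2
    refine ⟨hC1 (htop x z hxz) (c1_of_two hB hh (fun f => by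
      rw [← adj_aeval (cc_adj hh)]
      exact hz1 _ ⟨f, rfl⟩)), ?_⟩
    -- `2 = 0`
    rw [hma] at hm
    have e1 : ss h ^ (a + 1) = 0 := ss_pow_zero (by rw [show 2 * (a + 1) = 2 * a + 1 + 1 by ring]; exact hm)
    have e2 : ∀ v, h (nn h ((ss h ^ a) v)) = nn h ((ss h ^ a) v) := by
      intro v
      have h3 : nn h (nn h ((ss h ^ a) v)) = 0 := by
        rw [← Module.End.mul_apply (nn h) (nn h), ← pow_two, ← h_mul_ss, Module.End.mul_apply, ss_app_pow, e1]
        simp
      rw [nn_apply h (nn h _), sub_eq_zero] at h3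
      exact h3
    have e3 : ∀ v, (nn h ^ m) v = nn h ((ss h ^ a) v) := by
      intro v
      rw [hma, pow_succ', nn_pow_two_mul, Module.End.mul_apply, Module.End.mul_apply]
      have h4 : ∀ (k : ℕ) (w : V), nn h (((h : Module.End F V) ^ k) w) = ((h : Module.End F V) ^ k) (nn h w) := by
        intro k w
        exact LinearMap.congr_fun ((comm_h_nn h).pow_left k).eq.symm w
      rw [h4]
      have h5 : ∀ k : ℕ, ((h : Module.End F V) ^ k) (nn h ((ss h ^ a) v)) = nn h ((ss h ^ a) v) := by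
        intro k
        induction k with
        | zero => simp
        | succ k ih =>
          rw [pow_succ, Module.End.mul_apply]
          have : (h : Module.End F V) (nn h ((ss h ^ a) v)) = nn h ((ss h ^ a) v) := e2 v
          rw [this, ih]
      rw [h5]
    by_contra h2
    apply hxy
    have e4 : ∀ v, B v (h ((ss h ^ a) v)) = 0 := by
      intro v
      have h3 := hcase v
      rw [e3, nn_apply, map_sub, ss_pow, self_aeval hB hh, sub_zero] at h3
      rw [ss_pow]
      exact h3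
    have e5 : B x (h ((ss h ^ a) y)) + B y (h ((ss h ^ a) x)) = 0 := by
      have h3 := e4 (x + y)
      simp only [map_add, LinearMap.add_apply, e4 x, e4 y] at h3
      linear_combination h3
    have e6 : B y (h ((ss h ^ a) x)) = - B x (h⁻¹ ((ss h ^ a) y)) := by
      rw [hB.neg, hh.adj, ss_adj hh]
      congr 2
      rw [ss_pow]
      exact (ginv_aeval h _ _).symm
    have e7 : (ss h ^ a) y = h⁻¹ ((ss h ^ a) y) + h⁻¹ (nn h ((ss h ^ a) y)) := by
      rw [nn_apply, map_sub, inv_app]; abel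
    have e8 : h⁻¹ (nn h ((ss h ^ a) y)) = nn h ((ss h ^ a) y) := by
      have := congrArg (fun w => h⁻¹ w) (e2 y)
      simp only [inv_app] at this
      exact this.symm
    have e9 : h ((ss h ^ a) y) = nn h ((ss h ^ a) y) + (ss h ^ a) y := by rw [nn_apply]; abel
    have e10 : (2 : F) * B x (nn h ((ss h ^ a) y)) = 0 := by
      have h3 : h⁻¹ ((ss h ^ a) y) = (ss h ^ a) y - nn h ((ss h ^ a) y) := by
        rw [e8] at e7
        exact (sub_eq_of_eq_add e7).symm
      rw [e6, e9, h3, map_add, map_sub] at e5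
      linear_combination e5
    rw [e3]
    exact (mul_eq_zero.1 e10).resolve_left h2

end Cfsg.Agent.H144
end
end

-- part: H144/Main
section
/-!
# The pieces of an isometry of a symplectic space

`indec_main` : an orthogonally indecomposable isometry `g` satisfies `C1 B g`, or the characteristic is not two
and `-g` is an exceptional piece.
-/

set_option autoImplicit false
open Polynomial

noncomputable section

namespace Cfsg.Agent.H144

variable {F V : Type*} [Field F] [AddCommGroup V] [Module F V]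

/-- `-g` -/
def ng (g : V ≃ₗ[F] V) : V ≃ₗ[F] V := LinearEquiv.neg F * g

theorem ng_apply (g : V ≃ₗ[F] V) (v : V) : ng g v = - g v := rfl

theorem ng_iso {B : LinearMap.BilinForm F V} {g : V ≃ₗ[F] V} (hg : Iso B g) : Iso B (ng g) := by
  intro x y
  rw [ng_apply, ng_apply, map_neg, map_neg, LinearMap.neg_apply, neg_neg, hg]

theorem ng_inv_apply (g : V ≃ₗ[F] V) (v : V) : (ng g)⁻¹ v = - g⁻¹ v := by
  have h : ng g (-g⁻¹ v) = v := by rw [ng_apply, map_neg, app_inv, neg_neg]
  nth_rewrite 1 [← h]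
  rw [inv_app]

theorem ng_Inv {g : V ≃ₗ[F] V} {P : Submodule F V} (h : Inv (ng g) P) : Inv g P := by
  intro v hv
  have := h v hv
  rw [ng_apply] at this
  simpa using P.neg_mem this

theorem ng_indec {B : LinearMap.BilinForm F V} {g : V ≃ₗ[F] V} (h : Indec B g) : Indec B (ng g) :=
  fun P hP hP' => h P (ng_Inv hP) hP'

theorem M_ng (g : V ≃ₗ[F] V) (v : V) : M (ng g) v ≤ M g v := by
  apply M_le _ _ (self_mem_M g v)
  · intro w hw
    rw [ng_apply]
    exact Submodule.neg_mem _ (M_inv hw)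
  · intro w hw
    rw [ng_inv_apply]
    exact Submodule.neg_mem _ (M_inv' hw)

theorem c1_top {B : LinearMap.BilinForm F V} {g : V ≃ₗ[F] V} {P : Submodule F V} (hP : P = ⊤)
    (h : C1On B g P) : C1 B g := by
  subst hP
  obtain ⟨Q, R, h1, h2, h3, h4⟩ := h
  exact ⟨Q, R, h1, h2, h3, h4⟩

/-- from an eigenvalue of `c` to nilpotency -/
theorem nil_of_root {g : V ≃ₗ[F] V} {ε : F} (hε : ε * ε = 1) {k : ℕ}
    (h : aeval (cc g) ((X - C (2 * ε)) ^ k) = 0) {h' : V ≃ₗ[F] V} (hh : ∀ v, h' v = ε • g v) :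
    nn h' ^ (2 * k) = 0 := by
  have h1 : nn h' ^ 2 = (ε • (g : Module.End F V)) * (ε • aeval (cc g) (X - C (2 * ε))) := by
    ext v
    rw [pow_two, Module.End.mul_apply, Module.End.mul_apply, nn_apply, nn_apply, hh, hh]
    simp only [LinearMap.smul_apply, map_sub, aeval_X, aeval_C, LinearMap.sub_apply, Module.algebraMap_end_apply,
      map_smul]
    rw [cc_apply]
    change ε • (ε • g (g v) - g v) - (ε • g v - v) = ε • (ε • g (g v + g⁻¹ v) - (2 * ε) • ε • g v)
    rw [map_add, app_inv]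
    match_scalars
    · ring
    · linear_combination (2 * ε) * hε
    · linear_combination -hε
  have h2 : Commute (ε • (g : Module.End F V)) (ε • aeval (cc g) (X - C (2 * ε))) := by
    apply Commute.smul_left
    apply Commute.smul_right
    ext v
    exact g_aeval g _ v
  rw [pow_mul, h1, h2.mul_pow]
  have h3 : (ε • aeval (cc g) (X - C (2 * ε))) ^ k = 0 := by
    rw [_root_.smul_pow, ← map_pow, h, smul_zero]
  rw [h3, mul_zero]

variable [FiniteDimensional F V]

theorem indec_main {B : LinearMap.BilinForm F V} (hB : Alt B) (hN : Nond B) {g : V ≃ₗ[F] V} (hg : Iso B g)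
    [Nontrivial V] (hI : Indec B g) : C1 B g ∨ ((2 : F) ≠ 0 ∧ Exc B (ng g)) := by
  -- minimal polynomial of `c` is a power of an irreducible polynomial
  have hint : IsIntegral F (cc g) := Algebra.IsIntegral.isIntegral _
  obtain ⟨π, hπ, hπd⟩ := exists_irreducible_of_natDegree_pos (minpoly.natDegree_pos hint)
  have hμ0 : minpoly F (cc g) ≠ 0 := minpoly.ne_zero hint
  obtain ⟨q, hq, hqn⟩ := (FiniteMultiplicity.of_prime_left hπ.prime hμ0).exists_eq_pow_mul_and_not_dvd
  obtain ⟨e, he⟩ : ∃ e, multiplicity π (minpoly F (cc g)) = e + 1 := by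
    refine ⟨multiplicity π (minpoly F (cc g)) - 1, ?_⟩
    rcases Nat.eq_zero_or_pos (multiplicity π (minpoly F (cc g))) with h0 | h0
    · rw [h0, pow_zero, one_mul] at hq
      rw [hq] at hπd
      exact absurd hπd hqn
    · omega
  rw [he] at hq
  have hcop : IsCoprime (π ^ (e + 1)) q := ((hπ.coprime_iff_not_dvd).2 hqn).pow_left
  set P := LinearMap.ker (aeval (cc g) (π ^ (e + 1))) with hP
  set Q := LinearMap.ker (aeval (cc g) q) with hQ
  have hPQ : P ⊔ Q = ⊤ := by
    rw [hP, hQ, sup_ker_aeval_eq_ker_aeval_mul_of_coprime _ hcop, ← hq, minpoly.aeval]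
    exact LinearMap.ker_zero
  have horth : Orth B P Q := by
    intro x hx y hy
    obtain ⟨a, b, hab⟩ := hcop
    have h1 : x = aeval (cc g) (b * q) x := by
      have h2 : aeval (cc g) (a * π ^ (e + 1) + b * q) x = x := by rw [hab]; simp
      rw [map_add, LinearMap.add_apply, aeval_mul_app, LinearMap.mem_ker.1 hx, map_zero, zero_add] at h2
      exact h2.symm
    rw [h1, adj_aeval (cc_adj hg), aeval_mul_app, LinearMap.mem_ker.1 hy, map_zero, map_zero]
  have hPtop : P = ⊤ := by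
    refine (hI P ?_ ?_).resolve_left ?_
    · intro v hv
      rw [hP, LinearMap.mem_ker] at hv ⊢
      rw [← g_aeval, hv, map_zero]
    · intro v hv hw
      exact eq_zero_of_orth hN hPQ hw (horth v hv)
    · intro h0
      rw [h0, bot_sup_eq] at hPQ
      have h1 : aeval (cc g) q = 0 := by
        ext v
        have : v ∈ Q := by rw [hPQ]; trivial
        exact LinearMap.mem_ker.1 this
      have h2 := minpoly.dvd F (cc g) h1
      exact hqn (hπd.trans h2)
  have hzero : aeval (cc g) (π ^ (e + 1)) = 0 := by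
    ext v
    have : v ∈ P := by rw [hPtop]; trivial
    exact LinearMap.mem_ker.1 this
  have hnz : aeval (cc g) (π ^ e) ≠ 0 := by
    intro h0
    have h1 := minpoly.dvd F (cc g) h0
    have h2 : π ^ (e + 1) ∣ π ^ e := by
      refine dvd_trans ?_ h1
      rw [hq]
      exact dvd_mul_right _ _
    have h3 := (pow_dvd_pow_iff hπ.ne_zero hπ.not_isUnit).1 h2
    omega
  by_cases hcase : ∃ v f, B v (g (aeval (cc g) (π ^ e * f) v)) ≠ 0
  · obtain ⟨v, f, hv⟩ := hcase
    left
    refine c1_top ?_ (c1_of_cyclic hB hg v)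
    refine (hI _ (fun w hw => M_inv hw) (nd_cyclic hB hg hπ hzero hv)).resolve_left ?_
    intro h0
    have : v ∈ (⊥ : Submodule F V) := by rw [← h0]; exact self_mem_M _ _
    rw [Submodule.mem_bot] at this
    exact hv (by rw [this]; simp)
  push Not at hcase
  have hT : ∀ y, g (aeval (cc g) (π ^ e) y) = g⁻¹ (aeval (cc g) (π ^ e) y) := by
    intro y
    rw [← sub_eq_zero]
    apply hN
    intro x
    apply hB.zero
    have h1 := hcase (x + y) 1
    have h2 := hcase x 1
    have h3 := hcase y 1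
    rw [mul_one] at h1 h2 h3
    simp only [map_add, LinearMap.add_apply, h2, h3] at h1
    have h4 : B y (g (aeval (cc g) (π ^ e) x)) = - B x (g⁻¹ (aeval (cc g) (π ^ e) y)) := by
      rw [hB.neg, hg.adj, adj_aeval (cc_adj hg), ← ginv_aeval]
    rw [h4] at h1
    rw [map_sub]
    linear_combination h1
  -- an eigenvector
  obtain ⟨y, hy⟩ : ∃ y, aeval (cc g) (π ^ e) y ≠ 0 := by
    by_contra hcon
    push Not at hcon
    exact hnz (LinearMap.ext hcon)
  set u := aeval (cc g) (π ^ e) y with hu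
  have hgg : g (g u) = u := by
    have h1 := congrArg (fun w => g w) (hT y)
    rw [← hu] at h1
    simpa [app_inv] using h1
  have hπu : aeval (cc g) π u = 0 := by
    rw [hu, ← aeval_mul_app, ← pow_succ', hzero, LinearMap.zero_apply]
  obtain ⟨ε, hε, z, hz, hgz, hπz⟩ : ∃ ε : F, (ε = 1 ∨ ε = -1) ∧ ∃ z, z ≠ 0 ∧ g z = ε • z ∧
      aeval (cc g) π z = 0 := by
    by_cases h0 : g u + u = 0
    · exact ⟨-1, Or.inr rfl, u, hy, by rw [neg_one_smul]; exact eq_neg_of_add_eq_zero_left h0, hπu⟩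
    · refine ⟨1, Or.inl rfl, g u + u, h0, ?_, ?_⟩
      · rw [map_add, hgg, one_smul, add_comm]
      · rw [map_add, ← g_aeval, hπu, map_zero, add_zero]
  have hεε : ε * ε = 1 := by rcases hε with rfl | rfl <;> ring
  have hginv : g⁻¹ z = ε • z := by
    have h1 : g (ε • z) = z := by rw [map_smul, hgz, smul_smul, hεε, one_smul]
    nth_rewrite 1 [← h1]
    rw [inv_app]
  have hcz : ∀ f : F[X], aeval (cc g) f z = f.eval (2 * ε) • z := by
    intro f
    have hc1 : cc g z = (2 * ε) • z := by rw [cc_apply, hgz, hginv, two_mul, add_smul]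
    induction f using Polynomial.induction_on' with
    | add p q hp hq => simp only [map_add, LinearMap.add_apply, hp, hq, eval_add, add_smul]
    | monomial k a =>
      have hk : ∀ k : ℕ, ((cc g) ^ k) z = (2 * ε) ^ k • z := by
        intro k
        induction k with
        | zero => simp
        | succ k ih =>
          rw [pow_succ, Module.End.mul_apply, hc1, map_smul, ih, smul_smul, pow_succ, mul_comm]
      simp only [aeval_monomial, Module.algebraMap_end_eq_smul_id, Module.End.mul_apply, LinearMap.smul_apply,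
        LinearMap.id_apply, hk, eval_monomial, smul_smul]
  rw [hcz] at hπz
  have hroot : π.eval (2 * ε) = 0 := (smul_eq_zero.1 hπz).resolve_right hz
  have hdvd : (X - C (2 * ε)) ∣ π := dvd_iff_isRoot.2 hroot
  have hass : Associated (X - C (2 * ε)) π := (irreducible_X_sub_C _).associated_of_dvd hπ hdvd
  have hpow : aeval (cc g) ((X - C (2 * ε)) ^ (e + 1)) = 0 := by
    obtain ⟨w, hw⟩ := (hass.symm.pow_pow (n := e + 1)).dvd
    rw [hw, map_mul, hzero, zero_mul]
  -- the unipotent element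
  have key : ∀ h : V ≃ₗ[F] V, (∀ v, h v = ε • g v) → Iso B h → Indec B h →
      (∃ v, M h v = ⊤) ∨ (C1 B h ∧ (2 : F) = 0) ∨ Exc B h := by
    intro h hh hhi hhI
    have hnil := nil_of_root hεε hpow hh
    classical
    have hex : ∃ k, nn h ^ k = 0 := ⟨_, hnil⟩
    have hk := Nat.find_spec hex
    obtain ⟨m, hm⟩ : ∃ m, Nat.find hex = m + 1 := by
      refine ⟨Nat.find hex - 1, ?_⟩
      rcases Nat.eq_zero_or_pos (Nat.find hex) with h0 | h0
      · rw [h0, pow_zero] at hk
        exact absurd hk one_ne_zero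
      · omega
    rw [hm] at hk
    exact indec_unip hB hN hhi hhI hk (Nat.find_min hex (by omega))
  rcases hε with rfl | rfl
  · left
    rcases key g (fun v => by rw [one_smul]) hg hI with ⟨v, hv⟩ | ⟨h1, _⟩ | ⟨h1, _⟩
    · exact c1_top hv (c1_of_cyclic hB hg v)
    · exact h1
    · exact h1
  · have hc2 : ∀ {h2 : (2 : F) = 0}, C1 B (ng g) → C1 B g := by
      rintro h2 ⟨P', Q', h3, h4, h5, h6⟩
      refine ⟨P', Q', h3, h4, h5, fun v hv => ?_⟩
      have h7 : ng g v = g v := by
        rw [ng_apply, neg_eq_iff_add_eq_zero, ← two_smul F, h2, zero_smul]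
      rw [← h7]
      exact h6 v hv
    rcases key (ng g) (fun v => by rw [neg_one_smul]; rfl) (ng_iso hg) (ng_indec hI) with
      ⟨v, hv⟩ | ⟨h1, h2⟩ | h1
    · left
      refine c1_top ?_ (c1_of_cyclic hB hg v)
      rw [← top_le_iff, ← hv]
      exact M_ng g v
    · exact Or.inl (hc2 (h2 := h2) h1)
    · by_cases h2 : (2 : F) = 0
      · exact Or.inl (hc2 (h2 := h2) h1.1)
      · exact Or.inr ⟨h2, h1⟩

end Cfsg.Agent.H144
end
end

-- part: H144/Decomp
section
/-!
# Orthogonal decompositions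
-/

set_option autoImplicit false
open Polynomial

noncomputable section

namespace Cfsg.Agent.H144

variable {F V : Type*} [Field F] [AddCommGroup V] [Module F V]

/-- orthogonal complement -/
def perp (B : LinearMap.BilinForm F V) (P : Submodule F V) : Submodule F V where
  carrier := {v | ∀ w ∈ P, B w v = 0}
  zero_mem' := fun w _ => map_zero _
  add_mem' := fun {a b} ha hb w hw => by rw [map_add, ha w hw, hb w hw, add_zero]
  smul_mem' := fun c a ha w hw => by rw [map_smul, ha w hw, smul_zero]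

theorem mem_perp {B : LinearMap.BilinForm F V} {P : Submodule F V} {v : V} :
    v ∈ perp B P ↔ ∀ w ∈ P, B w v = 0 := Iff.rfl

theorem orth_perp {B : LinearMap.BilinForm F V} (P : Submodule F V) : Orth B P (perp B P) :=
  fun x hx _ hy => hy x hx

/-- `g` is a commutator on `P` -/
def CommOn (B : LinearMap.BilinForm F V) (g : V ≃ₗ[F] V) (P : Submodule F V) : Prop :=
  ∃ X Z : V ≃ₗ[F] V, Iso B X ∧ Iso B Z ∧ (∀ v ∈ P, X v ∈ P) ∧ (∀ v ∈ P, Z v ∈ P) ∧
    (∀ v ∈ perp B P, X v = v ∧ Z v = v) ∧ ∀ v ∈ P, g (Z (X v)) = X (Z v)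

theorem CommOn.bot (B : LinearMap.BilinForm F V) (g : V ≃ₗ[F] V) : CommOn B g ⊥ := by
  refine ⟨1, 1, Iso.one B, Iso.one B, fun v hv => hv, fun v hv => hv, fun v _ => ⟨rfl, rfl⟩, fun v hv => ?_⟩
  rw [Submodule.mem_bot] at hv
  subst hv
  simp

theorem CommOn.of_fixed (B : LinearMap.BilinForm F V) (g : V ≃ₗ[F] V) {P : Submodule F V}
    (h : ∀ v ∈ P, g v = v) : CommOn B g P :=
  ⟨1, 1, Iso.one B, Iso.one B, fun v hv => hv, fun v hv => hv, fun v _ => ⟨rfl, rfl⟩, fun v hv => h v hv⟩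

theorem CommOn.sup {B : LinearMap.BilinForm F V} (hB : Alt B) {g : V ≃ₗ[F] V} {P Q : Submodule F V}
    (hPQ : Orth B P Q) (hP : CommOn B g P) (hQ : CommOn B g Q) : CommOn B g (P ⊔ Q) := by
  obtain ⟨X, Z, hX, hZ, hXP, hZP, hp, hg⟩ := hP
  obtain ⟨X', Z', hX', hZ', hXP', hZP', hp', hg'⟩ := hQ
  have hPp : ∀ v ∈ P, v ∈ perp B Q := fun v hv w hw => hB.zero (hPQ v hv w hw)
  have hQp : ∀ v ∈ Q, v ∈ perp B P := fun v hv w hw => hPQ w hw v hv
  refine ⟨X * X', Z * Z', hX.mul hX', hZ.mul hZ', ?_, ?_, ?_, ?_⟩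
  · intro v hv
    obtain ⟨a, ha, b, hb, rfl⟩ := Submodule.mem_sup.1 hv
    simp only [LinearEquiv.mul_apply, map_add]
    rw [(hp' a (hPp a ha)).1, (hp _ (hQp _ (hXP' b hb))).1]
    exact Submodule.add_mem_sup (hXP a ha) (hXP' b hb)
  · intro v hv
    obtain ⟨a, ha, b, hb, rfl⟩ := Submodule.mem_sup.1 hv
    simp only [LinearEquiv.mul_apply, map_add]
    rw [(hp' a (hPp a ha)).2, (hp _ (hQp _ (hZP' b hb))).2]
    exact Submodule.add_mem_sup (hZP a ha) (hZP' b hb)
  · intro v hv
    have h1 : v ∈ perp B P := fun w hw => hv w (Submodule.mem_sup_left hw)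
    have h2 : v ∈ perp B Q := fun w hw => hv w (Submodule.mem_sup_right hw)
    simp only [LinearEquiv.mul_apply]
    rw [(hp' v h2).1, (hp' v h2).2]
    exact hp v h1
  · intro v hv
    obtain ⟨a, ha, b, hb, rfl⟩ := Submodule.mem_sup.1 hv
    simp only [LinearEquiv.mul_apply, map_add]
    rw [(hp' a (hPp a ha)).1, (hp' a (hPp a ha)).2, (hp' _ (hPp _ (hXP a ha))).2,
      (hp' _ (hPp _ (hZP a ha))).1, (hp _ (hQp _ (hXP' b hb))).1, (hp _ (hQp _ (hZP' b hb))).2,
      (hp _ (hQp _ (hZP' _ (hXP' b hb)))).2, (hp _ (hQp _ (hXP' _ (hZP' b hb)))).1, hg a ha, hg' b hb]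

theorem CommOn.top {B : LinearMap.BilinForm F V} {g : V ≃ₗ[F] V} (h : CommOn B g ⊤) : IsComm B g := by
  obtain ⟨X, Z, hX, hZ, _, _, _, hg⟩ := h
  refine ⟨X, Z, hX, hZ, ?_⟩
  have h1 : g * Z * X = X * Z := by
    ext v
    exact hg v trivial
  have h2 : g = X * Z * (g * Z * X)⁻¹ * g := by rw [h1]; group
  rw [h2]
  group

theorem C1On.sup {B : LinearMap.BilinForm F V} (hB : Alt B) {g : V ≃ₗ[F] V} {P Q : Submodule F V}
    (hPQ : Orth B P Q) (hP : C1On B g P) (hQ : C1On B g Q) : C1On B g (P ⊔ Q) := by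
  obtain ⟨W, W', h1, h2, h3, h4⟩ := hP
  obtain ⟨U, U', h5, h6, h7, h8⟩ := hQ
  have hWP : W ≤ P := by rw [← h3]; exact le_sup_left
  have hWP' : W' ≤ P := by rw [← h3]; exact le_sup_right
  have hUQ : U ≤ Q := by rw [← h7]; exact le_sup_left
  have hUQ' : U' ≤ Q := by rw [← h7]; exact le_sup_right
  refine ⟨W ⊔ U, W' ⊔ U', isotropic_sup hB h1 h5 (fun x hx y hy => hPQ x (hWP hx) y (hUQ hy)),
    isotropic_sup hB h2 h6 (fun x hx y hy => hPQ x (hWP' hx) y (hUQ' hy)), ?_, ?_⟩
  · rw [← h3, ← h7, sup_sup_sup_comm]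
  · intro v hv
    obtain ⟨a, ha, b, hb, rfl⟩ := Submodule.mem_sup.1 hv
    have : g (a + b) - (a + b) = (g a - a) + (g b - b) := by rw [map_add]; abel
    rw [this]
    exact Submodule.add_mem_sup (h4 a ha) (h8 b hb)

theorem C1On.bot (B : LinearMap.BilinForm F V) (g : V ≃ₗ[F] V) : C1On B g ⊥ := by
  refine ⟨⊥, ⊥, ?_, ?_, by simp, ?_⟩
  · intro x hx y _
    rw [Submodule.mem_bot] at hx
    subst hx; simp
  · intro x hx y _
    rw [Submodule.mem_bot] at hx
    subst hx; simp
  · intro v hv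
    rw [Submodule.mem_bot] at hv
    subst hv; simp

theorem Nd.sup {B : LinearMap.BilinForm F V} (hB : Alt B) {P Q : Submodule F V}
    (hPQ : Orth B P Q) (hP : Nd B P) (hQ : Nd B Q) : Nd B (P ⊔ Q) := by
  intro v hv h
  obtain ⟨a, ha, b, hb, rfl⟩ := Submodule.mem_sup.1 hv
  have h1 : a = 0 := hP a ha (fun w hw => by
    have := h w (Submodule.mem_sup_left hw)
    rwa [map_add, LinearMap.add_apply, hB.zero (hPQ w hw b hb), add_zero] at this)
  have h2 : b = 0 := hQ b hb (fun w hw => by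
    have := h w (Submodule.mem_sup_right hw)
    rwa [map_add, LinearMap.add_apply, hPQ a ha w hw, zero_add] at this)
  rw [h1, h2, add_zero]

theorem Inv.sup {g : V ≃ₗ[F] V} {P Q : Submodule F V} (hP : Inv g P) (hQ : Inv g Q) : Inv g (P ⊔ Q) := by
  intro v hv
  obtain ⟨a, ha, b, hb, rfl⟩ := Submodule.mem_sup.1 hv
  rw [map_add]
  exact Submodule.add_mem_sup (hP a ha) (hQ b hb)

section FD

variable [FiniteDimensional F V]

/-- restriction to an invariant subspace -/
def gr (g : V ≃ₗ[F] V) (P : Submodule F V) (hP : Inv g P) : P ≃ₗ[F] P :=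
  LinearEquiv.ofLinearMap ((g : V →ₗ[F] V).restrict hP) (((g⁻¹ : V ≃ₗ[F] V) : V →ₗ[F] V).restrict (inv_mem_of_mem hP))
    (by ext v; exact app_inv g v) (by ext v; exact inv_app g v)

theorem gr_apply (g : V ≃ₗ[F] V) (P : Submodule F V) (hP : Inv g P) (v : P) : (gr g P hP v : V) = g v := rfl

theorem gr_iso {B : LinearMap.BilinForm F V} {g : V ≃ₗ[F] V} (hg : Iso B g) (P : Submodule F V)
    (hP : Inv g P) : Iso (B.restrict P) (gr g P hP) := fun x y => hg x y

theorem restrict_alt {B : LinearMap.BilinForm F V} (hB : Alt B) (P : Submodule F V) : Alt (B.restrict P) :=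
  fun x => hB x

theorem restrict_nond {B : LinearMap.BilinForm F V} {P : Submodule F V} (hP : Nd B P) :
    Nond (B.restrict P) := fun x hx => Subtype.ext (hP x x.2 (fun w hw => hx ⟨w, hw⟩))

theorem sup_perp {B : LinearMap.BilinForm F V} (hB : Alt B) {P : Submodule F V} (hP : Nd B P) :
    P ⊔ perp B P = ⊤ := by
  rw [eq_top_iff]
  intro v _
  obtain ⟨p, hp⟩ := exists_rep (restrict_alt hB P) (restrict_nond hP) ((B.flip v) ∘ₗ P.subtype)
  rw [Submodule.mem_sup]
  refine ⟨p, p.2, v - p, fun w hw => ?_, by abel⟩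
  have h1 : B w p = B w v := hp ⟨w, hw⟩
  rw [map_sub, h1, sub_self]

theorem isCompl_perp {B : LinearMap.BilinForm F V} (hB : Alt B) {P : Submodule F V} (hP : Nd B P) :
    IsCompl P (perp B P) := by
  refine ⟨?_, codisjoint_iff.2 (sup_perp hB hP)⟩
  rw [Submodule.disjoint_def]
  intro v hv hv'
  exact hP v hv (fun w hw => hB.zero (hv' w hw))

/-- extend an isometry of `P` by the identity of `P^⊥` -/
theorem ext_iso {B : LinearMap.BilinForm F V} (hB : Alt B) {P : Submodule F V} (hP : Nd B P)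
    {x : P ≃ₗ[F] P} (hx : Iso (B.restrict P) x) :
    ∃ X : V ≃ₗ[F] V, Iso B X ∧ (∀ v : P, X v = x v) ∧ ∀ v ∈ perp B P, X v = v := by
  have hc := isCompl_perp hB hP
  let E := Submodule.prodEquivOfIsCompl P (perp B P) hc
  have hE : ∀ (p : P) (q : perp B P), E.symm (p + q) = (p, q) := by
    intro p q
    rw [E.symm_apply_eq]
    rfl
  let X : V ≃ₗ[F] V := E.symm.trans ((x.prodCongr (LinearEquiv.refl F _)).trans E)
  have hX : ∀ (p : P) (q : perp B P), X (p + q) = x p + q := by
    intro p q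
    change E ((x.prodCongr (LinearEquiv.refl F _)) (E.symm (p + q))) = _
    rw [hE]
    rfl
  refine ⟨X, ?_, fun v => ?_, fun v hv => ?_⟩
  · intro v w
    obtain ⟨p, hp, q, hq, rfl⟩ := mem_sup_top (sup_perp hB hP) v
    obtain ⟨p', hp', q', hq', rfl⟩ := mem_sup_top (sup_perp hB hP) w
    have h1 := hX ⟨p, hp⟩ ⟨q, hq⟩
    have h2 := hX ⟨p', hp'⟩ ⟨q', hq'⟩
    simp only at h1 h2
    rw [h1, h2]
    simp only [map_add, LinearMap.add_apply]
    have h3 : B (x ⟨p, hp⟩ : V) (x ⟨p', hp'⟩ : V) = B p p' := hx ⟨p, hp⟩ ⟨p', hp'⟩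
    rw [hq' _ (x ⟨p, hp⟩).2, hB.zero (hq _ (x ⟨p', hp'⟩).2), hq' p hp, hB.zero (hq p' hp'), h3]
  · have := hX v 0
    simpa using this
  · have := hX 0 ⟨v, hv⟩
    simpa using this

theorem commOn_of {B : LinearMap.BilinForm F V} (hB : Alt B) {P : Submodule F V} (hP : Nd B P)
    {g : V ≃ₗ[F] V} (hI : Inv g P) (h : IsComm (B.restrict P) (gr g P hI)) : CommOn B g P := by
  obtain ⟨x, z, hx, hz, hxz⟩ := h
  obtain ⟨X, hX, hXx, hXp⟩ := ext_iso hB hP hx
  obtain ⟨Z, hZ, hZz, hZp⟩ := ext_iso hB hP hz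
  refine ⟨X, Z, hX, hZ, fun v hv => ?_, fun v hv => ?_, fun v hv => ⟨hXp v hv, hZp v hv⟩, fun v hv => ?_⟩
  · rw [hXx ⟨v, hv⟩]; exact (x ⟨v, hv⟩).2
  · rw [hZz ⟨v, hv⟩]; exact (z ⟨v, hv⟩).2
  · have h1 : gr g P hI * z * x = x * z := by rw [hxz]; group
    have h2 := congrArg (fun t : P ≃ₗ[F] P => (t ⟨v, hv⟩ : V)) h1
    rw [hXx ⟨v, hv⟩, hZz ⟨v, hv⟩, hXx, hZz, ← gr_apply g P hI]
    exact h2

theorem c1_of_c1On {B : LinearMap.BilinForm F V} {P : Submodule F V} {g : V ≃ₗ[F] V} (hI : Inv g P)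
    (h : C1On B g P) : C1 (B.restrict P) (gr g P hI) := by
  obtain ⟨W, W', h1, h2, h3, h4⟩ := h
  have hW : W ≤ P := by rw [← h3]; exact le_sup_left
  have hW' : W' ≤ P := by rw [← h3]; exact le_sup_right
  refine ⟨W.comap P.subtype, W'.comap P.subtype, fun x hx y hy => h1 x hx y hy,
    fun x hx y hy => h2 x hx y hy, ?_, fun v hv => h4 v hv⟩
  rw [eq_top_iff]
  intro v _
  have hv : (v : V) ∈ W ⊔ W' := by rw [h3]; exact v.2
  obtain ⟨a, ha, b, hb, hab⟩ := Submodule.mem_sup.1 hv
  rw [Submodule.mem_sup]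
  exact ⟨⟨a, hW ha⟩, ha, ⟨b, hW' hb⟩, hb, Subtype.ext hab⟩

theorem c1On_of_c1 {B : LinearMap.BilinForm F V} {P : Submodule F V} {g : V ≃ₗ[F] V} (hI : Inv g P)
    (h : C1 (B.restrict P) (gr g P hI)) : C1On B g P := by
  obtain ⟨W, W', h1, h2, h3, h4⟩ := h
  refine ⟨W.map P.subtype, W'.map P.subtype, ?_, ?_, ?_, ?_⟩
  · rintro _ ⟨x, hx, rfl⟩ _ ⟨y, hy, rfl⟩
    exact h1 x hx y hy
  · rintro _ ⟨x, hx, rfl⟩ _ ⟨y, hy, rfl⟩
    exact h2 x hx y hy
  · rw [← Submodule.map_sup, h3, Submodule.map_subtype_top]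
  · rintro _ ⟨x, hx, rfl⟩
    exact ⟨_, h4 x hx, rfl⟩

/-- exceptional pieces: `-g` is an exceptional piece on `P` -/
def ExcOn (B : LinearMap.BilinForm F V) (g : V ≃ₗ[F] V) (P : Submodule F V) : Prop :=
  ∃ hI : Inv g P, Exc (B.restrict P) (ng (gr g P hI))

/-- the decomposition -/
def Dec (B : LinearMap.BilinForm F V) (g : V ≃ₗ[F] V) (P : Submodule F V) : Prop :=
  ∃ P' P₁ P₂ : Submodule F V, Orth B P' P₁ ∧ Orth B P' P₂ ∧ Orth B P₁ P₂ ∧ Inv g P' ∧ Inv g P₁ ∧ Inv g P₂ ∧
    Nd B P' ∧ Nd B P₁ ∧ Nd B P₂ ∧ P' ⊔ (P₁ ⊔ P₂) = P ∧ C1On B g P' ∧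
    ((P₁ = ⊥ ∧ P₂ = ⊥) ∨ ((2 : F) ≠ 0 ∧ ExcOn B g P₁)) ∧ CommOn B g P₂

theorem commOn_exc [Finite F] {B : LinearMap.BilinForm F V} (hB : Alt B) {g : V ≃ₗ[F] V} (hg : Iso B g)
    (h2 : (2 : F) ≠ 0) {P : Submodule F V} (hP : Nd B P) (h : ExcOn B g P) : CommOn B g P := by
  obtain ⟨hI, _, a, ha, _, J, hJ, hJ2, hJh⟩ := h
  apply commOn_of hB hP hI
  apply comm_of_inverted h2 (restrict_alt hB P) (restrict_nond hP) (gr_iso hg P hI) hJ hJ2
  intro v
  have h1 := hJh v
  rw [ng_apply, ng_inv_apply, map_neg, neg_inj] at h1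
  rw [h1, app_inv]

theorem Nd.bot (B : LinearMap.BilinForm F V) : Nd B ⊥ := fun v hv _ => (Submodule.mem_bot F).1 hv

theorem Inv.bot (g : V ≃ₗ[F] V) : Inv g ⊥ := fun v hv => by
  rw [Submodule.mem_bot] at hv ⊢; rw [hv, map_zero]

theorem exists_dec [Finite F] {B : LinearMap.BilinForm F V} (hB : Alt B) {g : V ≃ₗ[F] V}
    (hg : Iso B g) (n : ℕ) : ∀ P : Submodule F V, Inv g P → Nd B P → Module.finrank F P = n → Dec B g P := by
  induction n using Nat.strong_induction_on with
  | _ n ih =>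
  intro P hPI hPN hn
  rcases Nat.eq_zero_or_pos n with h0 | hpos
  · rw [h0] at hn
    have hbot : P = ⊥ := Submodule.finrank_eq_zero.1 hn
    subst hbot
    refine ⟨⊥, ⊥, ⊥, ?_, ?_, ?_, Inv.bot g, Inv.bot g, Inv.bot g, Nd.bot B, Nd.bot B, Nd.bot B, by simp,
      C1On.bot B g, Or.inl ⟨rfl, rfl⟩, CommOn.bot B g⟩ <;>
    · intro x hx y _
      rw [Submodule.mem_bot] at hx
      subst hx; simp
  · -- a minimal nonzero invariant nondegenerate subspace
    classical
    have hex : ∃ k, ∃ Q : Submodule F V, Q ≤ P ∧ Q ≠ ⊥ ∧ Inv g Q ∧ Nd B Q ∧ Module.finrank F Q = k :=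
      ⟨n, P, le_rfl, by
        rintro rfl
        rw [finrank_bot] at hn
        omega, hPI, hPN, hn⟩
    obtain ⟨Q, hQP, hQ0, hQI, hQN, hQk⟩ := Nat.find_spec hex
    have hmin : ∀ Q' : Submodule F V, Q' ≤ P → Q' ≠ ⊥ → Inv g Q' → Nd B Q' →
        Module.finrank F Q ≤ Module.finrank F Q' := by
      intro Q' h1 h2 h3 h4
      rw [hQk]
      exact Nat.find_min' hex ⟨Q', h1, h2, h3, h4, rfl⟩
    have hQnt : Nontrivial Q := Submodule.nontrivial_iff_ne_bot.2 hQ0
    have hIndec : Indec (B.restrict Q) (gr g Q hQI) := by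
      intro R hRI hRN
      by_cases hR : R = ⊥
      · exact Or.inl hR
      right
      have h1 : Module.finrank F (R.map Q.subtype) = Module.finrank F R :=
        (Submodule.equivMapOfInjective Q.subtype Q.injective_subtype R).finrank_eq.symm
      have h2 := hmin (R.map Q.subtype) ((Submodule.map_subtype_le Q R).trans hQP) (by
        intro h0
        apply hR
        rw [h0, finrank_bot] at h1
        exact Submodule.finrank_eq_zero.1 h1.symm) (by
        rintro _ ⟨x, hx, rfl⟩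
        exact ⟨_, hRI x hx, rfl⟩) (by
        rintro _ ⟨x, hx, rfl⟩ h0
        have := hRN x hx (fun w hw => h0 w ⟨w, hw, rfl⟩)
        rw [this]; rfl)
      rw [h1] at h2
      exact Submodule.eq_top_of_finrank_eq (le_antisymm (Submodule.finrank_le R) h2)
    have hpiece := indec_main (restrict_alt hB Q) (restrict_nond hQN) (gr_iso hg Q hQI) hIndec
    -- the complement
    set R := P ⊓ perp B Q with hR
    have hQR : Q ⊔ R = P := by
      apply le_antisymm (sup_le hQP inf_le_left)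
      intro v hv
      have h1 : v ∈ Q ⊔ perp B Q := by rw [sup_perp hB hQN]; trivial
      obtain ⟨a, ha, b, hb, rfl⟩ := Submodule.mem_sup.1 h1
      refine Submodule.add_mem_sup ha ⟨?_, hb⟩
      have := P.sub_mem hv (hQP ha)
      simpa using this
    have hQRo : Orth B Q R := fun x hx y hy => hy.2 x hx
    have hRI : Inv g R := by
      intro v hv
      refine ⟨hPI v hv.1, fun w hw => ?_⟩
      rw [hg.adj']
      exact hv.2 _ (inv_mem_of_mem hQI w hw)
    have hRN : Nd B R := by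
      intro v hv h0
      apply hPN v hv.1
      intro w hw
      rw [← hQR] at hw
      obtain ⟨a, ha, b, hb, rfl⟩ := Submodule.mem_sup.1 hw
      rw [map_add, h0 b hb, hB.zero (hQRo a ha v hv), add_zero]
    have hdisj : Disjoint Q R := by
      rw [Submodule.disjoint_def]
      intro v hv hv'
      exact hQN v hv (fun w hw => hB.zero (hv'.2 w hw))
    have hfin : Module.finrank F Q + Module.finrank F R = n := by
      have h1 := Submodule.finrank_sup_add_finrank_inf_eq Q R
      rw [hQR, hdisj.eq_bot, finrank_bot, hn] at h1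
      omega
    have hQpos : 0 < Module.finrank F Q := Module.finrank_pos
    obtain ⟨P', P₁, P₂, o1, o2, o3, i1, i2, i3, n1, n2, n3, hsup, hc, hex, hcomm⟩ :=
      ih (Module.finrank F R) (by omega) R hRI hRN rfl
    have hP'R : P' ≤ R := by rw [← hsup]; exact le_sup_left
    have hP₁R : P₁ ≤ R := by rw [← hsup]; exact le_sup_left.trans le_sup_right
    have hP₂R : P₂ ≤ R := by rw [← hsup]; exact le_sup_right.trans le_sup_right
    have oQ : ∀ {T : Submodule F V}, T ≤ R → Orth B Q T := fun hT x hx y hy => hQRo x hx y (hT hy)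
    rcases hpiece with hC | ⟨h2, hE⟩
    · refine ⟨Q ⊔ P', P₁, P₂, orth_sup (oQ hP₁R) o1, orth_sup (oQ hP₂R) o2, o3, Inv.sup hQI i1, i2, i3,
        Nd.sup hB (oQ hP'R) hQN n1, n2, n3, ?_, C1On.sup hB (oQ hP'R) (c1On_of_c1 hQI hC) hc, hex, hcomm⟩
      rw [sup_assoc, hsup, hQR]
    · refine ⟨P', Q, P₁ ⊔ P₂, (oQ hP'R).symm hB, orth_sup' o1 o2, orth_sup' (oQ hP₁R) (oQ hP₂R), i1, hQI,
        Inv.sup i2 i3, n1, hQN, Nd.sup hB o3 n2 n3, ?_, hc, Or.inr ⟨h2, hQI, hE⟩, ?_⟩
      · rw [← sup_assoc, sup_comm P' Q, sup_assoc, hsup, hQR]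
      · apply CommOn.sup hB o3 _ hcomm
        rcases hex with ⟨h3, _⟩ | ⟨_, h3⟩
        · rw [h3]; exact CommOn.bot B g
        · exact commOn_exc hB hg h2 n2 h3

end FD

end Cfsg.Agent.H144
end
end
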